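import Cfsg.Agent.Lib.TensorTwoThreeU.Eigen

/-!
At most `12 (q+1)²` (`6 (q+1)²` if `q = 3`) pairs of isometries act on a diagonalisable self-adjoint map by
fractional linear maps.
-/

set_option autoImplicit false
set_option linter.unusedSectionVars false

namespace Cfsg.Agent.Lib.TensorTwoThreeU

open Matrix Polynomial Cfsg.Agent.Lib Cfsg.Agent.Lib.TensorMax Cfsg.Agent.Lib.TensorForm

open scoped _root_.Classical in
/-- The roots of unity of order dividing `N`. -/
noncomputable def muFinset (K : Type*) [Field K] (N : ℕ) : Finset K :=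
  (nthRoots N (1 : K)).toFinset

theorem card_muFinset {K : Type*} [Field K] (N : ℕ) : (muFinset K N).card ≤ N := by
  classical
  exact (Multiset.toFinset_card_le _).trans (card_nthRoots N (1 : K))

theorem mem_muFinset {K : Type*} [Field K] {N : ℕ} (hN : 0 < N) {x : K} (hx : x ^ N = 1) : x ∈ muFinset K N := by
  classical
  exact Multiset.mem_toFinset.2 ((mem_nthRoots hN).2 hx)

theorem fin3_third : ∀ i j : Fin 3, i ≠ j → -(i + j) ≠ i ∧ -(i + j) ≠ j := by decide

theorem fin3_cases : ∀ i j x : Fin 3, i ≠ j → x ≠ i → x = j ∨ x = -(i + j) := by decide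

theorem perm3_swap : ∀ (π : Equiv.Perm (Fin 3)) (k : Fin 3), π ≠ 1 → π k = k → ∃ i, π i ≠ i ∧ π (π i) = i := by
  decide

theorem perm3_two_fix : ∀ (π : Equiv.Perm (Fin 3)) (k l : Fin 3), π k = k → l ≠ k → π l = l → π = 1 := by
  decide

theorem prod_three {K : Type*} [CommRing K] :
    ∀ i j : Fin 3, i ≠ j → ∀ v : Fin 3 → K, v 0 * v 1 * v 2 = v i * v j * v (-(i + j)) := by
  intro i j hij v
  have hu : (Finset.univ : Finset (Fin 3)) = {i, j, -(i + j)} := by revert i j; decide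
  obtain ⟨h1, h2⟩ := fin3_third i j hij
  rw [← Fin.prod_univ_three, hu, Finset.prod_insert (by simp only [Finset.mem_insert, Finset.mem_singleton, not_or]; exact ⟨hij, Ne.symm h1⟩),
    Finset.prod_insert (by simp only [Finset.mem_singleton]; exact Ne.symm h2), Finset.prod_singleton, mul_assoc]

/-- Few triples of norm-type units of product one. -/
theorem card_units_le {K : Type*} [Field K] (r : ℕ) (hr : 1 ≤ r) (τ : Fin 3 → Fin 3) (hτ : Function.Injective τ) :
    ∃ s : Finset (Fin 3 → K), s.card ≤ (r + 2) ^ 2 ∧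
      ∀ v : Fin 3 → K, (∀ j, v (τ j) * v j ^ (r + 1) = 1) → v 0 * v 1 * v 2 = 1 → v ∈ s := by
  classical
  have hne : ∀ {v : Fin 3 → K}, v 0 * v 1 * v 2 = 1 → ∀ i, v i ≠ 0 := fun {v} hp i e => by
    fin_cases i <;> simp_all
  by_cases hid : ∀ j, τ j = j
  · refine ⟨((muFinset K (r + 2)) ×ˢ (muFinset K (r + 2))).image fun x => ![x.1, x.2, (x.1 * x.2)⁻¹], ?_, ?_⟩
    · refine Finset.card_image_le.trans ?_
      rw [Finset.card_product, pow_two]
      exact Nat.mul_le_mul (card_muFinset _) (card_muFinset _)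
    · intro v hv hp
      have hmem : ∀ j, v j ∈ muFinset K (r + 2) := fun j =>
        mem_muFinset (by omega) (by have := hv j; rw [hid] at this; rw [← this]; ring)
      refine Finset.mem_image.2 ⟨(v 0, v 1), Finset.mem_product.2 ⟨hmem 0, hmem 1⟩, funext fun i => ?_⟩
      fin_cases i <;> first | rfl | exact inv_eq_of_mul_eq_one_right hp
  push Not at hid
  obtain ⟨j, hj⟩ := hid
  have hk1 : -(τ j + j) ≠ j := (fin3_third _ _ hj).2
  have hk2 : τ (-(τ j + j)) = j ∨ τ (-(τ j + j)) = -(τ j + j) := by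
    have h1 : τ (-(τ j + j)) ≠ τ j := fun e => hk1 (hτ e)
    exact fin3_cases _ _ _ hj h1
  set k := -(τ j + j) with hk
  obtain ⟨N, hN0, hN, hNv⟩ : ∃ N, 0 < N ∧ N ≤ (r + 2) ^ 2 ∧ ∀ v : Fin 3 → K,
      (∀ j, v (τ j) * v j ^ (r + 1) = 1) → v 0 * v 1 * v 2 = 1 → v k = v j ^ r → v j ^ N = 1 := by
    rcases hk2 with h | h
    · refine ⟨1 + r * (r + 1), by omega, by nlinarith, fun v hv hp hvk => ?_⟩
      have := hv k
      rw [h, hvk, ← pow_mul, ← pow_succ'] at this
      rw [← this]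
      ring
    · refine ⟨r * (r + 2), by positivity, by nlinarith, fun v hv hp hvk => ?_⟩
      have := hv k
      rw [h, hvk, ← pow_mul, ← pow_add] at this
      rw [← this]
      ring
  let mk : K → Fin 3 → K := fun x i => if i = τ j then (x ^ (r + 1))⁻¹ else if i = j then x else x ^ r
  refine ⟨(muFinset K N).image mk, Finset.card_image_le.trans ((card_muFinset N).trans hN), fun v hv hp => ?_⟩
  have hvk : v k = v j ^ r := by
    have h1 := prod_three (τ j) j hj v
    rw [hp, ← hk] at h1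
    have h2 := hv j
    have h3 : v (τ j) * v j * v k = v (τ j) * v j * v j ^ r := by rw [← h1, mul_assoc, ← pow_succ', h2]
    exact mul_left_cancel₀ (mul_ne_zero (hne hp _) (hne hp _)) h3
  refine Finset.mem_image.2 ⟨v j, mem_muFinset hN0 (hNv v hv hp hvk), funext fun i => ?_⟩
  simp only [mk]
  split_ifs with h1 h2
  · subst h1
    exact inv_eq_of_mul_eq_one_left (hv j)
  · rw [h2]
  · have : i = k := (fin3_cases _ _ _ hj h1).resolve_left h2
    rw [this, hvk]

variable {F : Type*} [Field F] [Fintype F] {q : ℕ} {σ : F →+* F} {f : (Fin 3 → F) → (Fin 3 → F) → F}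

theorem map_isometry (hf : IsSForm σ 1 f) {D : Matrix (Fin 3) (Fin 3) F}
    (hD : ∀ v w, f (D *ᵥ v) (D *ᵥ w) = f v w) : Dᵀ * gram f * D.map σ = gram f := by
  ext i j
  have h := hD (Pi.single i 1) (Pi.single j 1)
  rw [eq_gram hf] at h
  have e2 : (fun k => σ ((D *ᵥ (Pi.single j 1 : Fin 3 → F)) k)) = fun k => σ (D k j) :=
    funext fun k => by simp
  rw [e2, mulVec_single_one] at h
  rw [Matrix.mul_assoc, Matrix.mul_apply']
  exact h

/-- The pairs acting on `A` by fractional linear maps. -/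
def Moeb (σ : F →+* F) (f : (Fin 3 → F) → (Fin 3 → F) → F) (A : Matrix (Fin 3) (Fin 3) F)
    (x₀ m₀ : Fin 2 → F) (d : Matrix (Fin 2) (Fin 2) F) (D : Matrix (Fin 3) (Fin 3) F) : Prop :=
  (∀ v w, f (D *ᵥ v) (D *ᵥ w) = f v w) ∧ D.det = 1 ∧ ∃ α β γ ε : F,
    σ α = α ∧ σ β = β ∧ σ γ = γ ∧ σ ε = ε ∧ α * ε - β * γ = 1 ∧
      d *ᵥ x₀ = α • x₀ + γ • m₀ ∧ d *ᵥ m₀ = β • x₀ + ε • m₀ ∧
      A * (D * (α • 1 + β • A)) = D * (γ • 1 + ε • A)

namespace Diag

variable {A : Matrix (Fin 3) (Fin 3) F} (E : Diag σ f A q)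

local notation "K" => AlgebraicClosure F
local notation "ι" => algebraMap F (AlgebraicClosure F)

theorem w_ne (i : Fin 3) : E.w i ≠ 0 := E.w_li.ne_zero i

theorem line {η : K} {z : Fin 3 → K} (hz : z ≠ 0) (h : A.map ι *ᵥ z = η • z) :
    ∃ j, ∃ v : K, v ≠ 0 ∧ η = E.θ j ∧ z = v • E.w j := by
  classical
  let bs := basisOfLinearIndependentOfCardEqFinrank E.w_li (by simp)
  have hz' : z = ∑ k, bs.repr z k • E.w k := by
    conv_lhs => rw [← bs.sum_repr z]
    simp [bs]
  have h0 : ∑ k, (bs.repr z k * (E.θ k - η)) • E.w k = 0 := by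
    rw [hz', Matrix.mulVec_sum] at h
    simp only [mulVec_smul, E.eig, Finset.smul_sum, smul_smul] at h
    rw [← sub_eq_zero, ← Finset.sum_sub_distrib] at h
    rw [← h]
    exact Finset.sum_congr rfl fun k _ => by rw [← sub_smul, mul_sub, mul_comm η]
  have hc := Fintype.linearIndependent_iff.1 E.w_li _ h0
  obtain ⟨j, hj⟩ : ∃ j, bs.repr z j ≠ 0 := by
    by_contra hall
    push Not at hall
    exact hz (by rw [hz']; simp [hall])
  have hη : η = E.θ j := (sub_eq_zero.1 ((mul_eq_zero.1 (hc j)).resolve_left hj)).symm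
  refine ⟨j, _, hj, hη, hz'.trans (Finset.sum_eq_single j (fun k _ hk => ?_) (by simp))⟩
  have : bs.repr z k = 0 := (mul_eq_zero.1 (hc k)).resolve_right
    (sub_ne_zero.2 (hη ▸ fun e => hk (E.θ_inj e)))
  rw [this, zero_smul]

theorem pair_li {i k : Fin 3} (hik : i ≠ k) {s t : K} (h : s • E.w i + t • E.w k = 0) : s = 0 ∧ t = 0 := by
  have hli : LinearIndependent K ![E.w i, E.w k] := by
    convert E.w_li.comp ![i, k] (fun a b => by fin_cases a <;> fin_cases b <;> simp [hik, Ne.symm hik]) using 1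
    funext a
    fin_cases a <;> rfl
  exact LinearIndependent.pair_iff.1 hli s t h

theorem ext_basis {D D' : Matrix (Fin 3) (Fin 3) F} (h : ∀ i, D.map ι *ᵥ E.w i = D'.map ι *ᵥ E.w i) :
    D = D' := by
  have e : D.map ι = D'.map ι := by
    let bs := basisOfLinearIndependentOfCardEqFinrank E.w_li (by simp)
    have : Matrix.mulVecLin (D.map ι) = Matrix.mulVecLin (D'.map ι) := bs.ext fun i => by simpa [bs] using h i
    exact Matrix.ext_iff_mulVec.2 fun v => LinearMap.congr_fun this v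
  exact Matrix.map_injective (ι).injective e

theorem pair_iso (hσq : ∀ r, σ r = r ^ q) (hf : IsSForm σ 1 f) {D : Matrix (Fin 3) (Fin 3) F}
    (hD : ∀ v w, f (D *ᵥ v) (D *ᵥ w) = f v w) (v w : Fin 3 → K) :
    (D.map ι *ᵥ v) ⬝ᵥ ((gram f).map ι *ᵥ fun k => E.φ ((D.map ι *ᵥ w) k))
      = v ⬝ᵥ ((gram f).map ι *ᵥ fun k => E.φ (w k)) := by
  have e1 : (fun k => E.φ ((D.map ι *ᵥ w) k)) = (D.map σ).map ι *ᵥ fun k => E.φ (w k) := by
    funext k
    rw [RingHom.map_mulVec, show (D.map ι).map E.φ = (D.map σ).map ι from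
      Matrix.ext fun i j => by simp only [Matrix.map_apply, E.φ_pow, hσq, map_pow]]
    rfl
  rw [e1, ← vecMul_transpose, ← dotProduct_mulVec, mulVec_mulVec, mulVec_mulVec, ← Matrix.transpose_map,
    ← Matrix.map_mul, ← Matrix.map_mul, map_isometry hf hD]

variable {x₀ m₀ : Fin 2 → F}

/-- Such a pair permutes the eigenlines. -/
theorem perm {d : Matrix (Fin 2) (Fin 2) F} {D : Matrix (Fin 3) (Fin 3) F} (hM : Moeb σ f A x₀ m₀ d D) :
    ∃ π : Equiv.Perm (Fin 3), (∀ i, ∃ v : K, v ≠ 0 ∧ D.map ι *ᵥ E.w i = v • E.w (π i)) ∧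
      ∃ α β γ ε : F, σ α = α ∧ σ β = β ∧ σ γ = γ ∧ σ ε = ε ∧ α * ε - β * γ = 1 ∧
        d *ᵥ x₀ = α • x₀ + γ • m₀ ∧ d *ᵥ m₀ = β • x₀ + ε • m₀ ∧
        ∀ i, ι α + ι β * E.θ i ≠ 0 ∧ E.θ (π i) * (ι α + ι β * E.θ i) = ι γ + ι ε * E.θ i := by
  obtain ⟨-, hdet, α, β, γ, ε, hα, hβ, hγ, hε, hd, hdx, hdm, hrel⟩ := hM
  have hinj : Function.Injective fun v => D.map ι *ᵥ v := Matrix.mulVec_injective_iff_isUnit.2
    ((Matrix.isUnit_iff_isUnit_det _).2 (by
      rw [← RingHom.mapMatrix_apply, ← RingHom.map_det, hdet, map_one]; exact isUnit_one))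
  have hrel' : ∀ i, (ι α + ι β * E.θ i) • (A.map ι *ᵥ (D.map ι *ᵥ E.w i))
      = (ι γ + ι ε * E.θ i) • (D.map ι *ᵥ E.w i) := fun i => by
    have h := congrArg (fun Q : Matrix (Fin 3) (Fin 3) F => Q.map ι *ᵥ E.w i) hrel
    simp only [Matrix.map_mul, ← mulVec_mulVec, Matrix.map_add _ (map_add ι), add_mulVec,
      Matrix.map_smul' _ _ _ (map_mul ι), Matrix.map_one _ (map_zero ι) (map_one ι), smul_mulVec, one_mulVec,
      E.eig, smul_smul, ← add_smul, mulVec_smul] at h
    exact h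
  have hne : ∀ i, ι α + ι β * E.θ i ≠ 0 := fun i e => by
    have h0 : D.map ι *ᵥ E.w i ≠ 0 := fun e0 => E.w_ne i (hinj (e0.trans (mulVec_zero _).symm))
    have h := hrel' i
    rw [e, zero_smul, eq_comm, smul_eq_zero] at h
    have h' := h.resolve_right h0
    have : ι (α * ε - β * γ) = 0 := by
      rw [map_sub, map_mul, map_mul]
      linear_combination ι ε * e - ι β * h'
    rw [hd, map_one] at this
    exact one_ne_zero this
  have hline : ∀ i, ∃ j, ∃ v : K, v ≠ 0 ∧ E.θ j * (ι α + ι β * E.θ i) = ι γ + ι ε * E.θ i ∧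
      D.map ι *ᵥ E.w i = v • E.w j := fun i => by
    obtain ⟨j, v, hv, hη, hz⟩ := E.line (η := (ι γ + ι ε * E.θ i) / (ι α + ι β * E.θ i))
      (fun e0 => E.w_ne i (hinj (e0.trans (mulVec_zero _).symm))) (by
        rw [div_eq_inv_mul, ← smul_smul, ← hrel' i, smul_smul, inv_mul_cancel₀ (hne i), one_smul])
    exact ⟨j, v, hv, by rw [← hη, div_mul_cancel₀ _ (hne i)], hz⟩
  choose π v hv hθ hw using hline
  have hπ : Function.Injective π := fun i k e => by
    by_contra hik
    have h : D.map ι *ᵥ (v k • E.w i - v i • E.w k) = D.map ι *ᵥ 0 := by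
      rw [mulVec_sub, mulVec_smul, mulVec_smul, hw, hw, e, smul_smul, smul_smul, mul_comm, sub_self, mulVec_zero]
    have h' := hinj h
    rw [sub_eq_add_neg, ← neg_smul] at h'
    exact hv k (E.pair_li hik h').1
  exact ⟨Equiv.ofBijective π hπ.bijective_of_finite, fun i => ⟨v i, hv i, hw i⟩, α, β, γ, ε, hα, hβ, hγ, hε,
    hd, hdx, hdm, fun i => ⟨hne i, hθ i⟩⟩

/-- The permutations that occur. -/
noncomputable def allowed (q : ℕ) : Finset (Equiv.Perm (Fin 3)) :=
  if q = 3 then Finset.univ.filter (fun π => π = 1 ∨ ∀ i, π i ≠ i) else Finset.univ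

theorem card_allowed (q : ℕ) : (allowed q).card ≤ if q = 3 then 3 else 6 := by
  unfold allowed
  split_ifs <;> decide

theorem perm_allowed (hF : Fintype.card F = q ^ 2) (hσq : ∀ r, σ r = r ^ q) {π : Equiv.Perm (Fin 3)}
    {α β γ ε : F} (hα : σ α = α) (hβ : σ β = β) (hγ : σ γ = γ) (hd : α * ε - β * γ = 1)
    (h : ∀ i, ι α + ι β * E.θ i ≠ 0 ∧ E.θ (π i) * (ι α + ι β * E.θ i) = ι γ + ι ε * E.θ i) :
    π ∈ allowed q := by
  unfold allowed
  split_ifs with hq
  swap
  · exact Finset.mem_univ _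
  refine Finset.mem_filter.2 ⟨Finset.mem_univ _, ?_⟩
  by_contra hbad
  push Not at hbad
  obtain ⟨hπ1, k, hk⟩ := hbad
  have h3 : (3 : F) = 0 := by
    have h9 := Nat.cast_card_eq_zero F
    rw [hF, hq] at h9
    norm_num at h9
    exact mul_self_eq_zero.1 (show (3 : F) * 3 = 0 by norm_num; exact h9)
  have h3' : (3 : K) = 0 := by rw [← map_ofNat ι, h3, map_zero]
  obtain ⟨i, hi, hii⟩ : ∃ i, π i ≠ i ∧ π (π i) = i := perm3_swap π k hπ1 hk
  have e1 := (h i).2
  have e2 := (h (π i)).2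
  rw [hii] at e2
  have hεα : ι ε = -ι α := by
    refine mul_right_cancel₀ (sub_ne_zero.2 (fun e => hi (E.θ_inj e))) (?_ : _ * (E.θ (π i) - E.θ i) = _)
    linear_combination e1 - e2
  have hfix : σ α = α ∧ α ^ 3 = α := ⟨hα, by rw [← hq, ← hσq, hα]⟩
  have hβ0 : β ≠ 0 := fun e0 => by
    have hα2 : α * α = -1 := by
      refine (ι).injective ?_
      have := congrArg ι hd
      rw [map_sub, map_mul, map_mul, e0, map_zero, hεα, map_one] at this
      rw [map_mul, map_neg, map_one]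
      linear_combination -this
    have : α * (α * α) = α * 1 := by rw [mul_one]; linear_combination hfix.2
    have hα0 : α ≠ 0 := fun e => by simp [e] at hα2
    have h11 := mul_left_cancel₀ hα0 this
    rw [hα2] at h11
    exact one_ne_zero (α := F) (by linear_combination h11 + h3)
  set ν := ι β * E.θ k + ι α with hν
  have hkk := (h k).2
  rw [hk, hεα] at hkk
  have hν2 : ν * ν = -1 := by
    have := congrArg ι hd
    rw [map_sub, map_mul, map_mul, hεα, map_one] at this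
    rw [hν]
    linear_combination ι β * hkk - this
  have hφ : ∀ a : F, σ a = a → E.φ (ι a) = ι a := fun a ha => by rw [E.φ_pow, ← map_pow, ← hσq, ha]
  have hφν : E.φ ν = -ν := by
    rw [E.φ_pow, hq]
    linear_combination ν * hν2
  have hτk : ι β * E.θ (E.τ k) + ι α = -ν := by
    rw [E.θ_τ, ← hφν, hν, map_add, map_mul, hφ β hβ, hφ α hα]
  have hν0 : ν ≠ 0 := fun e => by simp [e] at hν2
  have hne : E.τ k ≠ k := fun e => by
    rw [e, ← hν] at hτk
    exact hν0 (by linear_combination ν * h3' - hτk)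
  have hfix2 : π (E.τ k) = E.τ k := by
    refine E.θ_inj (mul_right_cancel₀ (h (E.τ k)).1 ((h (E.τ k)).2.trans ?_))
    rw [hεα]
    refine mul_left_cancel₀ ((map_ne_zero ι).2 hβ0) ?_
    have e0 : (ι β * E.θ (E.τ k) + ι α) * (ι β * E.θ (E.τ k) + ι α) = ν * ν := by rw [hτk]; ring
    have hγν : ι α * ι α + ι β * ι γ = ν * ν := by rw [hν]; linear_combination (-ι β) * hkk
    linear_combination hγν - e0
  exact hπ1 (perm3_two_fix π k _ hk hne hfix2)

variable (hspan : ∀ d d' : Matrix (Fin 2) (Fin 2) F, d *ᵥ x₀ = d' *ᵥ x₀ → d *ᵥ m₀ = d' *ᵥ m₀ → d = d')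
include E hspan

theorem card_le (hF : Fintype.card F = q ^ 2) (hσq : ∀ r, σ r = r ^ q) (hq2 : 2 ≤ q) (hf : IsSForm σ 1 f)
    (S : Subgroup (GL (Fin 2) F × GL (Fin 3) F))
    (hS : ∀ p ∈ S, Moeb σ f A x₀ m₀ (p.1 : Matrix (Fin 2) (Fin 2) F) (p.2 : Matrix (Fin 3) (Fin 3) F)) :
    Nat.card S ≤ (if q = 3 then 3 else 6) * (2 * (q + 1) ^ 2) := by
  classical
  obtain ⟨r, rfl⟩ : ∃ r, q = r + 1 := ⟨q - 1, by omega⟩
  let g : GL (Fin 3) F →* GL (Fin 3) K := Matrix.GeneralLinearGroup.map ι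
  have hg : ∀ D : GL (Fin 3) F, (g D : Matrix (Fin 3) (Fin 3) K) = (D : Matrix (Fin 3) (Fin 3) F).map ι :=
    fun D => rfl
  choose π hπ α β γ ε hα hβ hγ hε hd hdx hdm hθ using fun p : S => E.perm (hS p.1 p.2)
  have hmem : ∀ p, π p ∈ allowed (r + 1) := fun p => E.perm_allowed hF hσq (hα p) (hβ p) (hγ p) (hd p) (hθ p)
  let Ker := {p : S // ∀ i, ∃ v : K, (g (p : GL (Fin 2) F × GL (Fin 3) F).2 : Matrix (Fin 3) (Fin 3) K) *ᵥ E.w i
    = v • E.w i}
  obtain ⟨V, hV, hVmem⟩ := @card_units_le K _ r (by omega) E.τ E.τ_inj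
  have hker : Nat.card Ker ≤ 2 * (r + 1 + 1) ^ 2 := by
    choose vv hvv using fun p : Ker => p.2
    have h1 : ∀ p : Ker, vv p ∈ V := fun p => by
      obtain ⟨hiso, hdet, -⟩ := hS _ p.1.2
      refine hVmem _ (fun j => ?_) ?_
      · have h := E.pair_iso hσq hf hiso (E.w (E.τ j)) (E.w j)
        rw [← hg, hvv, hvv, smul_dotProduct] at h
        have e : (fun k => E.φ ((vv p j • E.w j) k)) = E.φ (vv p j) • fun k => E.φ (E.w j k) :=
          funext fun k => by simp
        rw [e, mulVec_smul, dotProduct_smul, smul_eq_mul, smul_eq_mul, ← mul_assoc, E.φ_pow] at h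
        exact mul_right_cancel₀ (E.pair j) (h.trans (one_mul _).symm)
      · have hW : IsUnit (Matrix.of E.w) := Matrix.linearIndependent_rows_iff_isUnit.1 E.w_li
        have e : (g (p.1 : GL (Fin 2) F × GL (Fin 3) F).2 : Matrix (Fin 3) (Fin 3) K) * (Matrix.of E.w)ᵀ
            = (Matrix.of E.w)ᵀ * diagonal (vv p) := Matrix.ext fun i j => by
          rw [mul_diagonal, Matrix.mul_apply']
          have := congrFun (hvv p j) i
          rw [Pi.smul_apply, smul_eq_mul] at this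
          rw [transpose_apply, Matrix.of_apply, mul_comm]
          exact this
        have h := congrArg Matrix.det e
        rw [det_mul, det_mul, det_diagonal, Fin.prod_univ_three, det_transpose, hg, ← RingHom.mapMatrix_apply,
          ← RingHom.map_det, hdet, map_one, one_mul] at h
        exact mul_left_cancel₀ ((Matrix.isUnit_iff_isUnit_det _).1 hW).ne_zero (h.symm.trans (mul_one _).symm)
    have h2 : ∀ p : Ker, β p.1 = 0 ∧ γ p.1 = 0 ∧ ε p.1 = α p.1 ∧ (α p.1 = 1 ∨ α p.1 = -1) := fun p => by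
      have hq : ∀ i, E.θ i * (ι (α p.1) + ι (β p.1) * E.θ i) = ι (γ p.1) + ι (ε p.1) * E.θ i := fun i => by
        obtain ⟨v, hv0, hv⟩ := hπ p.1 i
        obtain ⟨v', hv'⟩ := p.2 i
        rw [hg, hv] at hv'
        have hpi : π p.1 i = i := by
          by_contra hne
          rw [← sub_eq_zero, sub_eq_add_neg, ← neg_smul] at hv'
          exact hv0 (E.pair_li hne hv').1
        have := (hθ p.1 i).2
        rwa [hpi] at this
      have d01 : (E.θ 0 - E.θ 1) ≠ 0 := sub_ne_zero.2 fun e => absurd (E.θ_inj e) (by decide)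
      have d02 : (E.θ 0 - E.θ 2) ≠ 0 := sub_ne_zero.2 fun e => absurd (E.θ_inj e) (by decide)
      have d12 : (E.θ 1 - E.θ 2) ≠ 0 := sub_ne_zero.2 fun e => absurd (E.θ_inj e) (by decide)
      have e01 : ι (β p.1) * (E.θ 0 + E.θ 1) + (ι (α p.1) - ι (ε p.1)) = 0 :=
        mul_left_cancel₀ d01 (by linear_combination hq 0 - hq 1)
      have e02 : ι (β p.1) * (E.θ 0 + E.θ 2) + (ι (α p.1) - ι (ε p.1)) = 0 :=
        mul_left_cancel₀ d02 (by linear_combination hq 0 - hq 2)
      have hb : β p.1 = 0 := (map_eq_zero ι).1 ((mul_eq_zero.1 (show ι (β p.1) * (E.θ 1 - E.θ 2) = 0 by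
        linear_combination e01 - e02)).resolve_right d12)
      have he : ε p.1 = α p.1 := by
        refine (ι).injective ?_
        rw [hb, map_zero] at e01
        linear_combination -e01
      have hc : γ p.1 = 0 := by
        refine (map_eq_zero ι).1 ?_
        have := hq 0
        rw [hb, he, map_zero] at this
        linear_combination -this
      have hh := hd p.1
      rw [hb, hc, he, mul_zero, sub_zero] at hh
      exact ⟨hb, hc, he, mul_self_eq_one_iff.1 hh⟩
    let J : Ker → ({1, -1} : Finset F) × V := fun p =>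
      (⟨α p.1, by rcases (h2 p).2.2.2 with h | h <;> simp [h]⟩, ⟨vv p, h1 p⟩)
    have hJ : Function.Injective J := fun p p' e => by
      simp only [J, Prod.mk.injEq, Subtype.mk.injEq] at e
      refine Subtype.ext (Subtype.ext (Prod.ext (Units.ext (hspan _ _ ?_ ?_)) (Units.ext (E.ext_basis fun i => ?_))))
      · rw [hdx, hdx, (h2 p).2.1, (h2 p').2.1, e.1]
      · rw [hdm, hdm, (h2 p).1, (h2 p').1, (h2 p).2.2.1, (h2 p').2.2.1, e.1]
      · rw [← hg, ← hg, hvv, hvv, e.2]
    refine (Nat.card_le_card_of_injective J hJ).trans ?_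
    rw [Nat.card_prod, Nat.card_eq_fintype_card, Fintype.card_coe, Nat.card_eq_fintype_card, Fintype.card_coe]
    exact Nat.mul_le_mul Finset.card_le_two hV
  have hdiff : ∀ p p' : S, π p = π p' → ∀ i, ∃ v : K,
      (g (p⁻¹ * p' : S).1.2 : Matrix (Fin 3) (Fin 3) K) *ᵥ E.w i = v • E.w i := fun p p' e i => by
    obtain ⟨v, hv0, hv⟩ := hπ p i
    obtain ⟨v', -, hv'⟩ := hπ p' i
    refine ⟨v' / v, ?_⟩
    rw [← hg] at hv hv'
    rw [← e] at hv'
    show (g ((p : GL (Fin 2) F × GL (Fin 3) F).2⁻¹ * (p' : GL (Fin 2) F × GL (Fin 3) F).2) : Matrix (Fin 3) (Fin 3) K) *ᵥ _ = _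
    rw [map_mul, map_inv, Units.val_mul, ← mulVec_mulVec, hv',
      show v' • E.w (π p i) = (v' / v) • (v • E.w (π p i)) by rw [smul_smul, div_mul_cancel₀ _ hv0],
      ← hv, mulVec_smul, mulVec_mulVec, ← Units.val_mul, inv_mul_cancel, Units.val_one, one_mulVec]
  obtain ⟨rep, hrep⟩ : ∃ rep : Equiv.Perm (Fin 3) → S, ∀ p : S, π (rep (π p)) = π p := by
    refine ⟨fun t => if h : ∃ p, π p = t then h.choose else 1, fun p => ?_⟩
    have h : ∃ p', π p' = π p := ⟨p, rfl⟩
    simp only [dif_pos h]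
    exact h.choose_spec
  let I : S → allowed (r + 1) × Ker := fun p =>
    (⟨π p, hmem p⟩, ⟨(rep (π p))⁻¹ * p, hdiff _ _ (hrep p)⟩)
  have hI : Function.Injective I := fun p p' e => by
    simp only [I, Prod.mk.injEq, Subtype.mk.injEq] at e
    have := e.2
    simp only [e.1] at this
    exact mul_left_cancel (congrArg Subtype.val this)
  haveI : Finite Ker := inferInstance
  refine (Nat.card_le_card_of_injective I hI).trans ?_
  rw [Nat.card_prod, Nat.card_eq_fintype_card, Fintype.card_coe]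
  exact Nat.mul_le_mul (card_allowed _) hker

end Diag

end Cfsg.Agent.Lib.TensorTwoThreeU
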