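import Cfsg.Agent.Lib.TensorTwoThreeU.Stab
import Cfsg.Agent.Lib.TensorTwoThreeU.Count
import Cfsg.Agent.Lib.Classical.UnitaryOrder
import Cfsg.Agent.Lib.MinIndexUnitary.Counts

/-!
A group of isometries of the tensor product of a binary and a ternary hermitian form over a field with
`q² ≥ 9` elements, containing the Kronecker isometries and no root group at an isotropic pure tensor,
consists of Kronecker products.
-/

set_option autoImplicit false
set_option linter.unusedSectionVars false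

namespace Cfsg.Agent.Lib.TensorTwoThreeU

open Matrix Cfsg.Agent.Lib Cfsg.Agent.Lib.TensorMax Cfsg.Agent.Lib.TensorForm
open scoped Kronecker

variable {F : Type*} [Field F] {a b m : ℕ} {σ : F →+* F}

theorem count_absurd (q : ℕ) (hq : 3 ≤ q) :
    ¬ (q * (q ^ 2 - 1) * (q ^ 3 * ((q ^ 2 - 1) * (q ^ 3 + 1))) * ((q ^ 2 - 1) * (q ^ 3 + 1)) ≤
      (q ^ 2 - 1) * (1 + q ^ 2 * (1 + q ^ 2 * (1 + q) + q ^ 5) + q ^ 9) *
        ((if q = 3 then 3 else 6) * (2 * (q + 1) ^ 2))) := by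
  intro h
  by_cases h3 : q = 3
  · subst h3
    norm_num at h
  rw [if_neg h3] at h
  have h4 : 4 ≤ q := by omega
  have h16 : 16 ≤ q ^ 2 := by nlinarith
  obtain ⟨Q, hQ⟩ : ∃ Q, q ^ 2 = Q + 1 := ⟨q ^ 2 - 1, by omega⟩
  rw [hQ, Nat.add_sub_cancel, ← hQ] at h
  have hQ0 : 0 < Q := by omega
  have h' : q ^ 4 * (Q * Q) * ((q ^ 3 + 1) * (q ^ 3 + 1)) ≤
      (1 + q ^ 2 * (1 + q ^ 2 * (1 + q) + q ^ 5) + q ^ 9) * (12 * (q + 1) ^ 2) := by
    refine Nat.le_of_mul_le_mul_left (le_trans (le_of_eq ?_) (h.trans (le_of_eq ?_))) hQ0 <;> ring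
  have a1 : 15 * q ^ 2 ≤ 16 * Q := by omega
  have a2 : 16 * (q + 1) ^ 2 ≤ 25 * q ^ 2 := by nlinarith
  have a3 : 10 * (1 + q ^ 2 * (1 + q ^ 2 * (1 + q) + q ^ 5) + q ^ 9) ≤ 11 * q ^ 9 := by
    have p2 : 16 * q ^ 7 ≤ q ^ 9 := by calc 16 * q ^ 7 ≤ q ^ 2 * q ^ 7 := Nat.mul_le_mul_right _ h16
                                          _ = q ^ 9 := by ring
    have p3 : 1 + q ^ 2 + q ^ 4 + q ^ 5 ≤ q ^ 6 := by nlinarith [Nat.pow_le_pow_left h4 2]
    have p4 : 4 * q ^ 6 ≤ q ^ 7 := by calc 4 * q ^ 6 ≤ q * q ^ 6 := Nat.mul_le_mul_right _ h4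
                                         _ = q ^ 7 := by ring
    nlinarith
  have b1 : (15 * q ^ 2) * (15 * q ^ 2) * (q ^ 4 * (q ^ 3 * q ^ 3))
      ≤ 256 * (q ^ 4 * (Q * Q) * ((q ^ 3 + 1) * (q ^ 3 + 1))) := by
    calc _ ≤ (16 * Q) * (16 * Q) * (q ^ 4 * ((q ^ 3 + 1) * (q ^ 3 + 1))) := by
          gcongr <;> omega
      _ = _ := by ring
  have b2 : 160 * ((1 + q ^ 2 * (1 + q ^ 2 * (1 + q) + q ^ 5) + q ^ 9) * (12 * (q + 1) ^ 2))
      ≤ 12 * ((11 * q ^ 9) * (25 * q ^ 2)) := by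
    calc _ = 12 * ((10 * (1 + q ^ 2 * (1 + q ^ 2 * (1 + q) + q ^ 5) + q ^ 9)) * (16 * (q + 1) ^ 2)) := by ring
      _ ≤ _ := by gcongr
  have b3 : 160 * (225 * q ^ 14) ≤ 256 * (3300 * q ^ 11) := by
    calc 160 * (225 * q ^ 14) = 160 * ((15 * q ^ 2) * (15 * q ^ 2) * (q ^ 4 * (q ^ 3 * q ^ 3))) := by ring
      _ ≤ 160 * (256 * (q ^ 4 * (Q * Q) * ((q ^ 3 + 1) * (q ^ 3 + 1)))) := Nat.mul_le_mul_left _ b1
      _ ≤ 160 * (256 * ((1 + q ^ 2 * (1 + q ^ 2 * (1 + q) + q ^ 5) + q ^ 9) * (12 * (q + 1) ^ 2))) := by gcongr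
      _ ≤ 256 * (12 * ((11 * q ^ 9) * (25 * q ^ 2))) := by
          rw [mul_left_comm]; exact Nat.mul_le_mul_left _ b2
      _ = _ := by ring
  have b4 : 64 * q ^ 11 ≤ q ^ 14 := by
    calc 64 * q ^ 11 ≤ q ^ 3 * q ^ 11 := Nat.mul_le_mul_right _ (by simpa using Nat.pow_le_pow_left h4 3)
      _ = q ^ 14 := by ring
  have : 0 < q ^ 11 := by positivity
  omega

/-- The special isometry group of a form. -/
def isoSL (f : (Fin m → F) → (Fin m → F) → F) : Subgroup (GL (Fin m) F) :=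
  Cfsg.preserving (Units.coeHom (Matrix (Fin m) (Fin m) F)) f ⊓ Cfsg.Geo.specialLinear (Fin m) F

theorem mem_isoSL {f : (Fin m → F) → (Fin m → F) → F} {g : GL (Fin m) F} :
    g ∈ isoSL f ↔ (∀ v w, f ((g : Matrix (Fin m) (Fin m) F) *ᵥ v) ((g : Matrix (Fin m) (Fin m) F) *ᵥ w) = f v w) ∧
      (g : Matrix (Fin m) (Fin m) F).det = 1 := by
  show g ∈ Cfsg.preserving _ f ∧ Matrix.GeneralLinearGroup.det g = 1 ↔ _
  rw [← Units.val_eq_one]
  exact Iff.rfl

/-- The Kronecker product as a homomorphism. -/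
def kp (a b : ℕ) (F : Type*) [Field F] : GL (Fin a) F × GL (Fin b) F →* GL (Fin a × Fin b) F where
  toFun p :=
    ⟨(p.1 : Matrix (Fin a) (Fin a) F) ⊗ₖ (p.2 : Matrix (Fin b) (Fin b) F),
      ((p.1⁻¹ : GL (Fin a) F) : Matrix (Fin a) (Fin a) F) ⊗ₖ ((p.2⁻¹ : GL (Fin b) F) : Matrix (Fin b) (Fin b) F),
      by rw [← mul_kronecker_mul, Units.mul_inv, Units.mul_inv, one_kronecker_one],
      by rw [← mul_kronecker_mul, Units.inv_mul, Units.inv_mul, one_kronecker_one]⟩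
  map_one' := Units.ext one_kronecker_one
  map_mul' p r := Units.ext (mul_kronecker_mul _ _ _ _)

theorem kp_mem (p : GL (Fin a) F × GL (Fin b) F) : kp a b F p ∈ Cfsg.Geo.kroneckerSubgroup a b F :=
  ⟨p.1, p.2, rfl⟩

theorem kp_op (p : GL (Fin a) F × GL (Fin b) F) (v : Fin a → F) (w : Fin b → F) :
    op (kp a b F p) (vecMulVec v w)
      = vecMulVec ((p.1 : Matrix (Fin a) (Fin a) F) *ᵥ v) ((p.2 : Matrix (Fin b) (Fin b) F) *ᵥ w) := by
  rw [op_kron (A := (p.1 : Matrix (Fin a) (Fin a) F)) (B := (p.2 : Matrix (Fin b) (Fin b) F)) rfl,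
    mul_vecMulVec, vecMulVec_mul, vecMul_transpose]

section Frame

variable [Fintype F] {q : ℕ}

theorem exists_change (hσq : ∀ r, σ r = r ^ q) {f : (Fin m → F) → (Fin m → F) → F} (hf : IsSForm σ 1 f)
    (hσ : σ ≠ RingHom.id F) : ∃ P : GL (Fin m) F, ∀ v w,
      f ((P : Matrix (Fin m) (Fin m) F) *ᵥ v) ((P : Matrix (Fin m) (Fin m) F) *ᵥ w) = Cfsg.hermForm m F q v w := by
  classical
  obtain ⟨e, he⟩ := herm_frame hf hσ
  let P : Matrix (Fin m) (Fin m) F := Matrix.of fun i j => e j i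
  have key : ∀ v w, f (P *ᵥ v) (P *ᵥ w) = Cfsg.hermForm m F q v w := by
    intro v w
    have hP : ∀ u, P *ᵥ u = ∑ j, u j • e j := fun u => funext fun i => by
      simp [P, mulVec, dotProduct, mul_comm]
    let R : (Fin m → F) → (Fin m → F) →+ F := fun x =>
      { toFun := fun u => f x u, map_zero' := hf.zero_right _, map_add' := hf.add_right _ }
    let Lf : (Fin m → F) → (Fin m → F) →+ F := fun y =>
      { toFun := fun u => f u y, map_zero' := hf.zero_left _, map_add' := fun p r => hf.add_left p r y }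
    rw [hP, hP]
    show Lf _ _ = _
    rw [map_sum]
    refine Finset.sum_congr rfl fun i _ => ?_
    show R (v i • e i) _ = _
    rw [map_sum]
    show ∑ j, f (v i • e i) (w j • e j) = _
    simp [hf.smul_left, hf.smul_right, he, hσq]
  have hd : P.det ≠ 0 := by
    intro e0
    obtain ⟨v, hv0, hv⟩ := Matrix.exists_mulVec_eq_zero_iff.2 e0
    obtain ⟨i, hi⟩ := Function.ne_iff.1 hv0
    have h := key v (Pi.single i 1)
    rw [hv, hf.zero_left, Cfsg.hermForm, Finset.sum_eq_single i (fun j _ hj => by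
      rw [Pi.single_eq_of_ne hj, ← hσq, map_zero, mul_zero]) (by simp)] at h
    exact hi (by simpa using h.symm)
  exact ⟨Matrix.GeneralLinearGroup.mkOfDetNeZero P hd, key⟩

theorem natCard_isoSL (hσq : ∀ r, σ r = r ^ q) {f : (Fin m → F) → (Fin m → F) → F} (hf : IsSForm σ 1 f)
    (hσ : σ ≠ RingHom.id F) : Nat.card (isoSL f) = Nat.card (Cfsg.SU m F q) := by
  obtain ⟨P, hP⟩ := exists_change hσq hf hσ
  refine Nat.card_congr (Equiv.symm (Equiv.ofBijective
    (fun g => (⟨P * (g : Matrix.SpecialLinearGroup (Fin m) F) * P⁻¹, mem_isoSL.2 ⟨fun v w => ?_, ?_⟩⟩ : isoSL f))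
    ⟨fun g g' e => ?_, fun h => ?_⟩))
  · have hv : ∀ u : Fin m → F, (P : Matrix (Fin m) (Fin m) F) *ᵥ (((P⁻¹ : GL (Fin m) F) : Matrix (Fin m) (Fin m) F) *ᵥ u) = u :=
      fun u => by rw [mulVec_mulVec, ← Units.val_mul, mul_inv_cancel, Units.val_one, one_mulVec]
    conv_rhs => rw [← hv v, ← hv w, hP, ← g.2]
    simp only [Units.val_mul, ← mulVec_mulVec]
    exact hP _ _
  · rw [Units.val_mul, Units.val_mul, Matrix.det_units_conj]
    exact (g : Matrix.SpecialLinearGroup (Fin m) F).2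
  · have := congrArg (fun h : isoSL f => P⁻¹ * (h : GL (Fin m) F) * P) e
    simp only [mul_assoc, inv_mul_cancel, inv_mul_cancel_left, mul_one] at this
    exact Subtype.ext (Subtype.ext (congrArg Units.val this))
  · obtain ⟨hi, hd⟩ := mem_isoSL.1 h.2
    refine ⟨⟨⟨((P⁻¹ * h * P : GL (Fin m) F) : Matrix (Fin m) (Fin m) F), ?_⟩, fun v w => ?_⟩, Subtype.ext (Units.ext ?_)⟩
    · rw [Units.val_mul, Units.val_mul, Matrix.det_units_conj', hd]
    · show Cfsg.hermForm m F q (((P⁻¹ * h * P : GL (Fin m) F) : Matrix (Fin m) (Fin m) F) *ᵥ v)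
        (((P⁻¹ * h * P : GL (Fin m) F) : Matrix (Fin m) (Fin m) F) *ᵥ w) = _
      rw [← hP, mulVec_mulVec, mulVec_mulVec, ← Units.val_mul, ← mul_assoc, ← mul_assoc, mul_inv_cancel, one_mul,
        Units.val_mul, ← mulVec_mulVec, ← mulVec_mulVec, hi, hP]
    · show (P : Matrix (Fin m) (Fin m) F) * ((P⁻¹ * h * P : GL (Fin m) F) : Matrix (Fin m) (Fin m) F)
        * ((P⁻¹ : GL (Fin m) F) : Matrix (Fin m) (Fin m) F) = _
      rw [← Units.val_mul, ← Units.val_mul]
      congr 1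
      group

theorem natCard_iso_ne (hF : Fintype.card F = q ^ 2) (hσq : ∀ r, σ r = r ^ q)
    {f : (Fin m → F) → (Fin m → F) → F} (hf : IsSForm σ 1 f) (hσ : σ ≠ RingHom.id F) :
    Nat.card {v : Fin m → F // f v v = 0 ∧ v ≠ 0} = (q ^ 2 - 1) * MinIndexUnitary.pointNum q m := by
  classical
  obtain ⟨P, hP⟩ := exists_change hσq hf hσ
  have h0 : Cfsg.hermForm m F q 0 0 = 0 := by simp [Cfsg.hermForm]
  have e1 : Nat.card {v : Fin m → F // f v v = 0}
      = Nat.card {v : Fin m → F // Cfsg.hermForm m F q v v = 0} := by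
    refine Nat.card_congr (Equiv.symm (Equiv.subtypeEquiv
      { toFun := fun v => (P : Matrix (Fin m) (Fin m) F) *ᵥ v
        invFun := fun v => ((P⁻¹ : GL (Fin m) F) : Matrix (Fin m) (Fin m) F) *ᵥ v
        left_inv := fun v => by
          show _ *ᵥ (_ *ᵥ v) = v
          rw [mulVec_mulVec, ← Units.val_mul, inv_mul_cancel, Units.val_one, one_mulVec]
        right_inv := fun v => by
          show _ *ᵥ (_ *ᵥ v) = v
          rw [mulVec_mulVec, ← Units.val_mul, mul_inv_cancel, Units.val_one, one_mulVec] }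
      fun v => by show _ ↔ f (_ *ᵥ v) (_ *ᵥ v) = 0; rw [hP]))
  have e2 : Nat.card {v : Fin m → F // f v v = 0} = Nat.card {v : Fin m → F // f v v = 0 ∧ v ≠ 0} + 1 := by
    rw [Nat.card_eq_fintype_card, Nat.card_eq_fintype_card, Fintype.card_subtype, Fintype.card_subtype,
      ← Finset.filter_filter, Finset.filter_ne', Finset.card_erase_add_one]
    exact Finset.mem_filter.2 ⟨Finset.mem_univ _, hf.zero_left 0⟩
  rw [MinIndexUnitary.isoCount_eq hF] at e1
  omega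

end Frame

namespace Ctx

variable [Fintype F] {q : ℕ} {f₁ : (Fin 2 → F) → (Fin 2 → F) → F}
  {f₂ : (Fin 3 → F) → (Fin 3 → F) → F} {M : Subgroup (GL (Fin 2 × Fin 3) F)}
  (C : Ctx σ f₁ f₂ M)
include C

theorem exists_good (hno : NoRoot σ f₁ f₂ M) {g : GL (Fin 2 × Fin 3) F} (hg : g ∈ M)
    (hgk : g ∉ Cfsg.Geo.kroneckerSubgroup 2 3 F) {x : Fin 2 → F} (hx0 : x ≠ 0) (hx : f₁ x x = 0) :
    ∃ y : Fin 2 → F, y ≠ 0 ∧ f₁ y y = 0 ∧
      ∀ u₀ u, op g (vecMulVec x u₀) = vecMulVec y u → u = 0 := by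
  classical
  have h1 := C.form₁
  have h2 := C.form₂
  obtain ⟨l, hl0, hl⟩ := C.skew
  obtain ⟨t, ht, ht0, ht1⟩ := C.big
  obtain ⟨m, hm, hxm⟩ := herm_partner h1 C.moved hx0 hx (δ := 1) one_ne_zero
  have hmx : f₁ m x = 1 := by rw [herm_eq h1 x m, hxm, map_one]
  have hσl : σ l = -l := by linear_combination hl
  let sk : Fin 3 → F := ![0, l, t * l]
  have hsk : ∀ i, σ (sk i) = -sk i := fun i => by fin_cases i <;> simp [sk, hσl, ht]
  have hski : Function.Injective sk := by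
    have h01 : t * l ≠ l := fun e => ht1 (mul_right_cancel₀ hl0 (e.trans (one_mul l).symm))
    have h00 : t * l ≠ 0 := mul_ne_zero ht0 hl0
    intro i j e
    fin_cases i <;> fin_cases j <;> simp [sk, hl0, Ne.symm hl0, h01, Ne.symm h01, h00, Ne.symm h00] at e ⊢
  let v : Fin 4 → Fin 2 → F := Fin.cons x fun i => m + sk i • x
  have hv0 : ∀ i, v i ≠ 0 := by
    intro i
    induction i using Fin.cases with
    | zero => exact hx0
    | succ i => exact fun e => one_ne_zero (α := F) (by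
        have h := congrArg (fun z => f₁ z x) e
        simpa [v, h1.add_left, h1.smul_left, hx, hmx, h1.zero_left] using h)
  have hvv : ∀ i, f₁ (v i) (v i) = 0 := by
    intro i
    induction i using Fin.cases with
    | zero => exact hx
    | succ i => simp [v, h1.add_left, h1.add_right, h1.smul_left, h1.smul_right, hx, hm, hmx, hxm, hsk]
  have hvn : ∀ i j, i ≠ j → f₁ (v i) (v j) ≠ 0 := by
    intro i j hij
    induction i using Fin.cases with
    | zero =>
      induction j using Fin.cases with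
      | zero => exact absurd rfl hij
      | succ j => simp [v, h1.add_right, h1.smul_right, hx, hxm]
    | succ i =>
      induction j using Fin.cases with
      | zero => simp [v, h1.add_left, h1.smul_left, hx, hmx]
      | succ j =>
        have hne : sk i - sk j ≠ 0 := sub_ne_zero.2 fun e => hij (congrArg Fin.succ (hski e))
        intro e
        apply hne
        simp [v, h1.add_left, h1.add_right, h1.smul_left, h1.smul_right, hx, hm, hmx, hxm, hsk] at e
        linear_combination e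
  by_contra hbad
  push Not at hbad
  choose u₀ u hu hu0 using fun i => hbad (v i) (hv0 i) (hvv i)
  have hniso : ∀ i, f₂ (u i) (u i) ≠ 0 := fun i e =>
    hgk (C.kron_of_hit hno hg hx0 hx (hv0 i) (hvv i) (hu0 i) e (hu i))
  have horth : ∀ i j, i ≠ j → f₂ (u i) (u j) = 0 := fun i j hij => by
    have h := C.iso g hg (vecMulVec x (u₀ i)) (vecMulVec x (u₀ j))
    rw [hu, hu, tB_pure_pure h1 h2, tB_pure_pure h1 h2, hx, mul_zero] at h
    exact (mul_eq_zero.1 h).resolve_right (hvn i j hij)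
  have hli : LinearIndependent F u := Fintype.linearIndependent_iff.2 fun c hc j => by
    let R : (Fin 3 → F) →ₗ[F] F :=
      { toFun := fun z => f₂ z (u j)
        map_add' := fun p r => h2.add_left p r _
        map_smul' := fun s p => h2.smul_left s p _ }
    have h := congrArg R hc
    rw [map_sum, map_zero, Finset.sum_eq_single j (fun i _ hij => by
      rw [map_smul, show R (u i) = 0 from horth i j hij, smul_zero]) (by simp), map_smul] at h
    exact (smul_eq_zero.1 h).resolve_right (hniso j)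
  have := hli.fintype_card_le_finrank
  simp at this

/-- The count of isotropic points rules out an element outside the Kronecker stabiliser. -/
theorem le_kron (hF : Fintype.card F = q ^ 2) (hσq : ∀ r, σ r = r ^ q) (hq : 3 ≤ q)
    (hno : NoRoot σ f₁ f₂ M) (L : Matrix (Fin 2) (Fin 3) F →ₗ[F] (Fin 6 → F)) (hinj : Function.Injective L)
    (hiso : ∀ X Y, Cfsg.hermForm 6 F q (L X) (L Y) = tB f₁ f₂ X Y) :
    M ≤ Cfsg.Geo.kroneckerSubgroup 2 3 F := by
  classical
  intro g hg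
  by_contra hgk
  have h1 := C.form₁
  have h2 := C.form₂
  obtain ⟨σe, -, hU⟩ := h1.exists_unitary C.moved
  obtain ⟨x, -, hx0, hx⟩ := FormMax.UnitarySL.exists_isotropic_in hU (W := ⊤)
    (by rw [finrank_top, Module.finrank_fin_fun])
  obtain ⟨m₀, hm0, hmm, hgood⟩ := C.exists_good hno hg hgk hx0 hx
  obtain ⟨x₁, hx₁, hmx₁⟩ := herm_partner h1 C.moved hm0 hmm (δ := 1) one_ne_zero
  have hx₁m : f₁ x₁ m₀ = 1 := by rw [herm_eq h1 m₀ x₁, hmx₁, map_one]
  obtain ⟨l, hl0, hl⟩ := C.skew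
  have hσl : σ l = -l := by linear_combination hl
  obtain ⟨x₀, hx₀⟩ : ∃ x₀, x₀ = l • x₁ := ⟨_, rfl⟩
  have f00 : f₁ x₀ x₀ = 0 := by rw [hx₀, h1.smul_left, h1.smul_right, hx₁, mul_zero, mul_zero]
  have f0m : f₁ x₀ m₀ = l := by rw [hx₀, h1.smul_left, hx₁m, mul_one]
  have fm0 : f₁ m₀ x₀ = -l := by rw [herm_eq h1 x₀ m₀, f0m, hσl]
  have f01 : f₁ x₀ x₁ = 0 := by rw [hx₀, h1.smul_left, hx₁, mul_zero]
  have hdec : ∀ v, v = (f₁ v m₀ / l) • x₀ + f₁ v x₁ • m₀ := fun v => by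
    conv_lhs => rw [decomp_two h1 hx₁ hmm hx₁m v]
    rw [hx₀, smul_smul, div_mul_cancel₀ _ hl0]
  let T : (Fin 3 → F) →ₗ[F] (Fin 3 → F) := l⁻¹ • (contrX 3 (cov f₁ m₀) ∘ₗ op g ∘ₗ plL 3 x)
  let R : (Fin 3 → F) →ₗ[F] (Fin 3 → F) := contrX 3 (cov f₁ x₁) ∘ₗ op g ∘ₗ plL 3 x
  have hTR : ∀ u, op g (vecMulVec x u) = vecMulVec x₀ (T u) + vecMulVec m₀ (R u) := fun u => by
    conv_lhs => rw [decomp_two_mat h1 hx₁ hmm hx₁m (op g _)]
    congr 1
    show _ = vecMulVec x₀ (l⁻¹ • (cov f₁ m₀ ᵥ* op g (vecMulVec x u)))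
    rw [hx₀, pure_smul_left, pure_smul_right, smul_smul, mul_inv_cancel₀ hl0, one_smul]
  have hTi : Function.Injective T := (injective_iff_map_eq_zero T).2 fun u hu => by
    have h := hTR u
    rw [hu, pure_zero_right, zero_add] at h
    have hR : R u = 0 := hgood u _ h
    rw [hR, pure_zero_right, ← map_zero (op g)] at h
    have h' := op_injective g h
    obtain ⟨η, hη⟩ := exists_dot_one hx0
    have h'' := congrArg (fun X => η ᵥ* X) h'
    simpa [vecMul_pure, dotProduct_comm η x, hη] using h''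
  let Te := LinearEquiv.ofBijective T ⟨hTi, LinearMap.injective_iff_surjective.1 hTi⟩
  let A : Matrix (Fin 3) (Fin 3) F := LinearMap.toMatrix' (R ∘ₗ Te.symm.toLinearMap)
  let W : (Fin 3 → F) → Matrix (Fin 2) (Fin 3) F := fun v => vecMulVec x₀ v + vecMulVec m₀ (A *ᵥ v)
  have hW : ∀ v, op g (vecMulVec x (Te.symm v)) = W v := fun v => by
    rw [hTR, show T (Te.symm v) = v from Te.apply_symm_apply v]
    simp only [W, A, LinearMap.toMatrix'_mulVec, LinearMap.comp_apply, LinearEquiv.coe_coe]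
  have hW' : ∀ u, op g (vecMulVec x u) = W (T u) := fun u => by
    rw [← hW]
    exact congrArg (fun z => op g (vecMulVec x z)) (Te.symm_apply_apply u).symm
  have hsa : ∀ v w, f₂ (A *ᵥ v) w = f₂ v (A *ᵥ w) := fun v w => by
    have h := C.iso g hg (vecMulVec x (Te.symm v)) (vecMulVec x (Te.symm w))
    rw [hW, hW, tB_pure_pure h1 h2, hx, mul_zero, tB_add_left h1 h2, tB_add_right h1 h2, tB_add_right h1 h2,
      tB_pure_pure h1 h2, tB_pure_pure h1 h2, tB_pure_pure h1 h2, tB_pure_pure h1 h2, f00, f0m, fm0, hmm] at h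
    exact (mul_right_cancel₀ hl0 (by linear_combination h)).symm
  have hnie : NoIsoEig σ f₂ A := fun θ hθ u hu0 huu hAu => by
    refine hgk (C.kron_of_hit hno hg hx0 hx (y := x₀ + θ • m₀) (fun e => hl0 ?_) ?_ hu0 huu
      ((hW u).trans (by simp only [W, hAu, pure_add_left, pure_smul_left, pure_smul_right])))
    · have h := congrArg (fun z => f₁ z m₀) e
      simp only [h1.add_left, h1.smul_left, f0m, hmm, mul_zero, add_zero, h1.zero_left] at h
      exact h
    · simp only [h1.add_left, h1.add_right, h1.smul_left, h1.smul_right, f00, f0m, fm0, hmm, hθ]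
      ring
  obtain ⟨E⟩ := exists_diag hF hσq h2 C.moved hsa hnie
  have hspan : ∀ d d' : Matrix (Fin 2) (Fin 2) F, d *ᵥ x₀ = d' *ᵥ x₀ → d *ᵥ m₀ = d' *ᵥ m₀ → d = d' :=
    fun d d' e1 e2 => Matrix.ext_iff_mulVec.2 fun v => by
      rw [hdec v, mulVec_add, mulVec_add, mulVec_smul, mulVec_smul, mulVec_smul, mulVec_smul, e1, e2]
  have hcoord : ∀ v w v' w' : Fin 3 → F, vecMulVec x₀ v + vecMulVec m₀ w = vecMulVec x₀ v' + vecMulVec m₀ w' →
      v = v' ∧ w = w' := fun v w v' w' e => by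
    have e1 := congrArg (fun X => cov f₁ m₀ ᵥ* X) e
    have e2 := congrArg (fun X => cov f₁ x₁ ᵥ* X) e
    simp only [vecMul_add, vecMul_pure, dotProduct_comm (cov f₁ m₀), dotProduct_comm (cov f₁ x₁), h1.dot_cov,
      f0m, hmm, f01, hmx₁, zero_smul, add_zero, zero_add, one_smul] at e1 e2
    exact ⟨smul_right_injective (Fin 3 → F) hl0 e1, e2⟩
  -- the image of `x ⊗ U` and its stabiliser
  let Wsub : Submodule F (Matrix (Fin 2) (Fin 3) F) := LinearMap.range (op g ∘ₗ plL 3 x)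
  let G₀ : Subgroup (GL (Fin 2) F × GL (Fin 3) F) := (isoSL f₁).prod (isoSL f₂)
  let Stb : Subgroup (GL (Fin 2) F × GL (Fin 3) F) :=
    { carrier := {p | ∀ X, op (kp 2 3 F p) X ∈ Wsub ↔ X ∈ Wsub}
      one_mem' := fun X => by rw [map_one, op_one]
      mul_mem' := fun {p r} hp hr X => by rw [map_mul, op_mul, hp, hr]
      inv_mem' := fun {p} hp X => by
        conv_rhs => rw [← op_op_inv (kp 2 3 F p) X, hp]
        rw [map_inv] }
  have hG₀M : ∀ p ∈ G₀, kp 2 3 F p ∈ M := fun p hp => by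
    obtain ⟨hi1, hd1⟩ := mem_isoSL.1 hp.1
    obtain ⟨hi2, hd2⟩ := mem_isoSL.1 hp.2
    refine C.kron _ (kp_mem p) ?_ (tB_iso_of_pure h1 h2 fun v w e d => by
      rw [kp_op, kp_op, tB_pure_pure h1 h2, hi1, hi2])
    show ((p.1 : Matrix (Fin 2) (Fin 2) F) ⊗ₖ (p.2 : Matrix (Fin 3) (Fin 3) F)).det = 1
    rw [det_kronecker, hd1, hd2, one_pow, one_pow, one_mul]
  have hMoeb : ∀ p ∈ G₀ ⊓ Stb, Moeb σ f₂ A x₀ m₀ (p.1 : Matrix (Fin 2) (Fin 2) F) (p.2 : Matrix (Fin 3) (Fin 3) F) := by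
    rintro p ⟨hp, hpS⟩
    obtain ⟨hi1, hd1⟩ := mem_isoSL.1 hp.1
    obtain ⟨hi2, hd2⟩ := mem_isoSL.1 hp.2
    set d := (p.1 : Matrix (Fin 2) (Fin 2) F) with hd
    set D := (p.2 : Matrix (Fin 3) (Fin 3) F) with hD
    obtain ⟨α, hα⟩ : ∃ α, α = f₁ (d *ᵥ x₀) m₀ / l := ⟨_, rfl⟩
    obtain ⟨γ, hγ⟩ : ∃ γ, γ = f₁ (d *ᵥ x₀) x₁ := ⟨_, rfl⟩
    obtain ⟨β, hβ⟩ : ∃ β, β = f₁ (d *ᵥ m₀) m₀ / l := ⟨_, rfl⟩
    obtain ⟨ε, hε⟩ : ∃ ε, ε = f₁ (d *ᵥ m₀) x₁ := ⟨_, rfl⟩
    have hdx : d *ᵥ x₀ = α • x₀ + γ • m₀ := by rw [hα, hγ]; exact hdec _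
    have hdm : d *ᵥ m₀ = β • x₀ + ε • m₀ := by rw [hβ, hε]; exact hdec _
    have hdet : α * ε - β * γ = 1 := by
      obtain ⟨P, hP⟩ : ∃ P : Matrix (Fin 2) (Fin 2) F, P = Matrix.of fun i j => ![x₀, m₀] j i := ⟨_, rfl⟩
      have hPd : P.det ≠ 0 := fun e0 => by
        obtain ⟨y, hy0, hy⟩ := Matrix.exists_mulVec_eq_zero_iff.2 e0
        have hy' : y 0 • x₀ + y 1 • m₀ = 0 := by
          rw [← hy, hP]
          funext i
          simp [mulVec, dotProduct, Fin.sum_univ_two, mul_comm]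
        have e1 := congrArg (fun z => f₁ z m₀) hy'
        have e2 := congrArg (fun z => f₁ z x₁) hy'
        simp only [h1.add_left, h1.smul_left, f0m, hmm, f01, hmx₁, h1.zero_left, mul_zero, add_zero, zero_add,
          mul_one] at e1 e2
        exact hy0 (funext fun i => by
          fin_cases i
          · exact (mul_eq_zero.1 e1).resolve_right hl0
          · exact e2)
      have e : d * P = P * !![α, β; γ, ε] := by
        ext i j
        have e1 := congrFun hdx i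
        have e2 := congrFun hdm i
        simp [mulVec, dotProduct, Fin.sum_univ_two] at e1 e2
        fin_cases j
        · simp [hP, Matrix.mul_apply, Fin.sum_univ_two]
          linear_combination e1
        · simp [hP, Matrix.mul_apply, Fin.sum_univ_two]
          linear_combination e2
      have h := congrArg Matrix.det e
      rw [det_mul, det_mul, hd1, one_mul, det_fin_two_of] at h
      exact mul_left_cancel₀ hPd (h.symm.trans (mul_one _).symm)
    have q1 := hi1 x₀ x₀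
    have q2 := hi1 m₀ m₀
    have q3 := hi1 x₀ m₀
    have q4 := hi1 m₀ x₀
    simp only [hdx, hdm, h1.add_left, h1.add_right, h1.smul_left, h1.smul_right, f00, f0m, fm0, hmm] at q1 q2 q3 q4
    have e1 : α * σ γ - γ * σ α = 0 := mul_right_cancel₀ hl0 (by linear_combination q1)
    have e2 : β * σ ε - ε * σ β = 0 := mul_right_cancel₀ hl0 (by linear_combination q2)
    have e3 : α * σ ε - γ * σ β = 1 := mul_right_cancel₀ hl0 (by linear_combination q3)
    have e4 : ε * σ α - β * σ γ = 1 := mul_right_cancel₀ hl0 (by linear_combination -q4)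
    refine ⟨hi2, hd2, α, β, γ, ε, ?_, ?_, ?_, ?_, hdet, hdx, hdm, Matrix.ext_iff_mulVec.2 fun v => ?_⟩
    · linear_combination α * e4 + β * e1 - σ α * hdet
    · linear_combination β * e3 - α * e2 - σ β * hdet
    · linear_combination γ * e4 + ε * e1 - σ γ * hdet
    · linear_combination ε * e3 - γ * e2 - σ ε * hdet
    have hmem : op (kp 2 3 F p) (W v) ∈ Wsub := (hpS _).2 ⟨Te.symm v, hW v⟩
    obtain ⟨u, hu⟩ := hmem
    have hu' : W (T u) = vecMulVec x₀ (D *ᵥ ((α • (1 : Matrix (Fin 3) (Fin 3) F) + β • A) *ᵥ v))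
        + vecMulVec m₀ (D *ᵥ ((γ • (1 : Matrix (Fin 3) (Fin 3) F) + ε • A) *ᵥ v)) := by
      rw [← hW']
      refine hu.trans ?_
      simp only [W, map_add, kp_op, ← hd, ← hD, hdx, hdm, add_mulVec, smul_mulVec, one_mulVec, mulVec_add,
        mulVec_smul, pure_add_left, pure_smul_left, pure_add_right, pure_smul_right]
      abel
    obtain ⟨c1, c2⟩ := hcoord _ _ _ _ hu'
    rw [← mulVec_mulVec, ← mulVec_mulVec, ← mulVec_mulVec, ← c1, c2]
  have hS := E.card_le hspan hF hσq (by omega) h2 (G₀ ⊓ Stb) hMoeb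
  -- the count
  let Tg := {v : Fin 6 → F // Cfsg.hermForm 6 F q v v = 0 ∧ v ≠ 0}
  let Src := G₀ × {c : Fin 3 → F // f₂ c c = 0 ∧ c ≠ 0}
  let Fm : Src → Tg := fun z => ⟨L (op (kp 2 3 F z.1) (op g (vecMulVec x (z.2 : Fin 3 → F)))),
    by rw [hiso, C.iso _ (hG₀M _ z.1.2), C.iso g hg, tB_pure_pure h1 h2, hx, mul_zero],
    fun e => by
      have h := hinj (e.trans (map_zero L).symm)
      have h' := op_injective g ((op_injective _ (h.trans (map_zero _).symm)).trans (map_zero _).symm)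
      obtain ⟨η, hη⟩ := exists_dot_one hx0
      have h'' := congrArg (fun X => η ᵥ* X) h'
      exact z.2.2.2 (by simpa [vecMul_pure, dotProduct_comm η x, hη] using h'')⟩
  have hfib : ∀ z z' : Src, Fm z = Fm z' →
      ((z.1⁻¹ * z'.1 : G₀) : GL (Fin 2) F × GL (Fin 3) F) ∈ G₀ ⊓ Stb := fun z z' e => by
    refine ⟨(z.1⁻¹ * z'.1).2, ?_⟩
    set s : GL (Fin 2) F × GL (Fin 3) F := ((z.1⁻¹ * z'.1 : G₀) : GL (Fin 2) F × GL (Fin 3) F) with hs
    have e' := hinj (congrArg Subtype.val e)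
    have hsg : op (kp 2 3 F s) (op g (vecMulVec x (z'.2 : Fin 3 → F))) = op g (vecMulVec x (z.2 : Fin 3 → F)) := by
      rw [hs, Subgroup.coe_mul, Subgroup.coe_inv, map_mul, map_inv, op_mul, ← e', op_inv_op]
    set g' := g⁻¹ * kp 2 3 F s * g with hg'
    have hg'M : g' ∈ M := M.mul_mem (M.mul_mem (M.inv_mem hg) (hG₀M _ (z.1⁻¹ * z'.1).2)) hg
    have hg'x : op g' (vecMulVec x (z'.2 : Fin 3 → F)) = vecMulVec x (z.2 : Fin 3 → F) := by
      rw [hg', op_mul, op_mul, hsg, op_inv_op]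
    obtain ⟨A', D', hAD⟩ := C.kron_of_hit hno hg'M hx0 hx hx0 hx z.2.2.2 z.2.2.1 hg'x
    have hk0 : ∀ v w, op g' (vecMulVec v w)
        = vecMulVec ((A' : Matrix (Fin 2) (Fin 2) F) *ᵥ v) ((D' : Matrix (Fin 3) (Fin 3) F) *ᵥ w) :=
      fun v w => by rw [op_kron hAD, mul_vecMulVec, vecMulVec_mul, vecMul_transpose]
    obtain ⟨ψ, hψ⟩ := exists_dot_one z.2.2.2
    have hr := congrArg (fun X => X *ᵥ ψ) ((hk0 _ _).symm.trans hg'x)
    simp only [pure_mulVec, hψ, one_smul] at hr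
    set r := ((D' : Matrix (Fin 3) (Fin 3) F) *ᵥ (z'.2 : Fin 3 → F)) ⬝ᵥ ψ with hrdef
    have hr0 : r ≠ 0 := fun e0 => hx0 (by rw [← hr, e0, zero_smul])
    have hA'x : (A' : Matrix (Fin 2) (Fin 2) F) *ᵥ x = r⁻¹ • x := by
      conv_rhs => rw [← hr, smul_smul, inv_mul_cancel₀ hr0, one_smul]
    have hle : Wsub.map (op (kp 2 3 F s)) ≤ Wsub := by
      rintro _ ⟨_, ⟨u, rfl⟩, rfl⟩
      refine ⟨r⁻¹ • ((D' : Matrix (Fin 3) (Fin 3) F) *ᵥ u), ?_⟩
      have h := congrArg (op g) (hk0 x u)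
      rw [hg', op_mul, op_mul, op_op_inv, hA'x] at h
      show op g (vecMulVec x _) = op (kp 2 3 F s) (op g (vecMulVec x u))
      rw [h, pure_smul_left, pure_smul_right]
    have heq : Wsub.map (op (kp 2 3 F s)) = Wsub := Submodule.eq_of_le_of_finrank_eq hle
      (Submodule.equivMapOfInjective _ (op_injective _) Wsub).finrank_eq.symm
    intro X
    constructor
    · intro hX
      rw [← heq] at hX
      obtain ⟨Y, hY, hYX⟩ := hX
      exact op_injective _ hYX ▸ hY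
    · exact fun hX => hle ⟨X, hX, rfl⟩
  obtain ⟨rep, hrep⟩ : ∃ rep : Tg → Src, ∀ z, Fm (rep (Fm z)) = Fm z := by
    have hne : Nonempty Src := by
      obtain ⟨σ₂, -, hU'⟩ := h2.exists_unitary C.moved
      obtain ⟨c, -, hc0, hc⟩ := FormMax.UnitarySL.exists_isotropic_in hU' (W := ⊤)
        (by rw [finrank_top, Module.finrank_fin_fun]; omega)
      exact ⟨(1, ⟨c, hc, hc0⟩)⟩
    exact ⟨Function.invFun Fm, fun z => Function.invFun_eq ⟨z, rfl⟩⟩
  let I : Src → Tg × (G₀ ⊓ Stb : Subgroup (GL (Fin 2) F × GL (Fin 3) F)) :=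
    fun z => (Fm z, ⟨_, hfib _ _ (hrep z)⟩)
  have hI : Function.Injective I := fun z z' e => by
    simp only [I, Prod.mk.injEq, Subtype.mk.injEq] at e
    have e2 := e.2
    rw [e.1] at e2
    have e3 : z.1 = z'.1 := mul_left_cancel (Subtype.ext e2)
    refine Prod.ext e3 (Subtype.ext ?_)
    have e1 := hinj (congrArg Subtype.val e.1)
    rw [e3] at e1
    have e4 := op_injective g (op_injective _ e1)
    obtain ⟨η, hη⟩ := exists_dot_one hx0
    have h'' := congrArg (fun X => η ᵥ* X) e4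
    simpa [vecMul_pure, dotProduct_comm η x, hη] using h''
  have hcount := Nat.card_le_card_of_injective I hI
  have hσ6 : IsSForm σ 1 (Cfsg.hermForm 6 F q) := by
    refine ⟨fun u v w => Forms.herm_add_left hF u v w, fun c u v => Forms.herm_smul_left hF c u v,
      fun v w => ?_, fun v hv => UnitaryMax.exists_h_ne hF hv, h1.invol, by rw [map_one, mul_one]⟩
    rw [one_mul, hσq, Forms.herm_conj hF]
  rw [Nat.card_prod, Nat.card_prod, natCard_iso_ne hF hσq h2 C.moved, natCard_iso_ne hF hσq hσ6 C.moved,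
    Nat.card_congr (Subgroup.prodEquiv (isoSL f₁) (isoSL f₂)).toEquiv, Nat.card_prod,
    natCard_isoSL hσq h1 C.moved, natCard_isoSL hσq h2 C.moved] at hcount
  have c2 : (q + 1) * Nat.card (Cfsg.SU 2 F q) = q * ((q + 1) * (q ^ 2 - 1)) := by
    rw [Classical.succ_mul_natCard_SU hF 2 (by norm_num), Classical.natCard_GU hF 2]
    simp [Finset.prod_range_succ, Nat.even_iff]
  have c3 : (q + 1) * Nat.card (Cfsg.SU 3 F q) = q ^ 3 * ((q + 1) * (q ^ 2 - 1) * (q ^ 3 + 1)) := by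
    rw [Classical.succ_mul_natCard_SU hF 3 (by norm_num), Classical.natCard_GU hF 3]
    simp [Finset.prod_range_succ, Nat.even_iff]
  have c2' : Nat.card (Cfsg.SU 2 F q) = q * (q ^ 2 - 1) :=
    Nat.eq_of_mul_eq_mul_left (by omega : 0 < q + 1) (by rw [c2]; ring)
  have c3' : Nat.card (Cfsg.SU 3 F q) = q ^ 3 * ((q ^ 2 - 1) * (q ^ 3 + 1)) :=
    Nat.eq_of_mul_eq_mul_left (by omega : 0 < q + 1) (by rw [c3]; ring)
  rw [c2', c3'] at hcount
  have hpn : MinIndexUnitary.pointNum q 3 = q ^ 3 + 1 := by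
    simp [MinIndexUnitary.pointNum]; ring
  have hpn6 : MinIndexUnitary.pointNum q 6 = 1 + q ^ 2 * (1 + q ^ 2 * (1 + q) + q ^ 5) + q ^ 9 := by
    simp [MinIndexUnitary.pointNum]
  rw [hpn, hpn6] at hcount
  have hbound := hcount.trans (Nat.mul_le_mul_left _ hS)
  revert hbound
  exact count_absurd q hq

end Ctx

end Cfsg.Agent.Lib.TensorTwoThreeU
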