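import Cfsg.Agent.Lib.TensorForm.Component

/-!
Mixed root vectors over components of dimension three, for at least three fixed scalars.
Written by helper24.
-/

set_option autoImplicit false
set_option linter.unusedSectionVars false

namespace Cfsg.Agent.Lib.TensorTwoThreeU

open Matrix Cfsg.Agent.Lib.Forms Cfsg.Agent.Lib.FormMax Cfsg.Agent.Lib.UnitaryMax Cfsg.Agent.Lib.TensorForm

variable {F : Type*} [Field F] [Fintype F] {n q : ℕ}

local notation "Vs" => (Fin n → F)
local notation "h" => Cfsg.hermForm n F q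

variable (hF : Fintype.card F = q ^ 2) {H : Subgroup (GL (Fin n) F)}
include hF

/-- For `q ≥ 3` there is a fixed scalar other than `0` and `1`. -/
theorem exists_fixed_ne (h3 : 3 ≤ q) : ∃ ω : F, ω ^ q = ω ∧ ω ≠ 0 ∧ ω ≠ 1 := by
  classical
  by_contra hno
  push Not at hno
  have hall : ∀ x : Fˣ, x ^ (q + 1) = 1 := fun x => Units.ext (by
    rw [Units.val_pow_eq_pow_val, Units.val_one]
    refine hno _ ?_ (pow_ne_zero _ x.ne_zero)
    rw [pow_succ, mul_pow, pow_q_pow_q hF, mul_comm])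
  have hd := (FiniteField.forall_pow_eq_one_iff F (q + 1)).1 hall
  rw [hF] at hd
  have := Nat.le_of_dvd (by omega) hd
  have : 3 * q ≤ q ^ 2 := by nlinarith
  omega

/-- Prescribed norm and prescribed real parts of the products with two independent vectors. -/
theorem exists_prescribed3 {X : Submodule F Vs} (hX : ∀ x ∈ X, x ≠ 0 → ∃ y ∈ X, h x y ≠ 0)
    (hdim : Module.finrank F X = 3) (h3 : 3 ≤ q) {b b' : Vs} (hb : b ∈ X) (hb' : b' ∈ X)
    (hind : ∀ c d : F, c • b + d • b' = 0 → c = 0 ∧ d = 0) {r : F} (hr : r ^ q = r) :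
    ∃ e₁ e₂ : F, e₁ + e₁ ^ q = 0 ∧ e₁ ≠ 0 ∧ e₂ + e₂ ^ q = 0 ∧ e₂ ≠ 0 ∧
      ∃ t ∈ X, h t b = r + e₁ ∧ h t b' = r + e₂ ∧ h t t = r := by
  obtain ⟨δ, hδ, hδ0⟩ := exists_skew_ne hF
  let L : X →ₗ[F] F × F :=
    ((hermSesq hF n b).comp X.subtype).prod ((hermSesq hF n b').comp X.subtype)
  have hsurj : L.range = ⊤ := by
    by_contra hne
    obtain ⟨p, hp⟩ : ∃ p, p ∉ L.range := by
      by_contra h'; push Not at h'; exact hne (eq_top_iff.mpr fun p _ => h' p)
    obtain ⟨φ, hφp, hφ⟩ := Submodule.exists_dual_map_eq_bot_of_notMem hp inferInstance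
    set c := φ (1, 0) with hc
    set d := φ (0, 1) with hd
    have hφval : ∀ x y : F, φ (x, y) = c * x + d * y := fun x y => by
      rw [show (x, y) = x • ((1 : F), (0 : F)) + y • ((0 : F), (1 : F)) by simp, map_add, map_smul,
        map_smul, smul_eq_mul, smul_eq_mul, hc, hd]
      ring
    have he : c ^ q • b + d ^ q • b' = 0 := by
      by_contra hne'
      obtain ⟨t, ht, hte⟩ := hX _ (X.add_mem (X.smul_mem _ hb) (X.smul_mem _ hb')) hne'
      refine hte (h_symm hF ?_)
      rw [herm_add_right hF, herm_smul_right hF, herm_smul_right hF, pow_q_pow_q hF, pow_q_pow_q hF,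
        ← hφval]
      have : φ (L ⟨t, ht⟩) ∈ L.range.map φ := Submodule.mem_map_of_mem ⟨_, rfl⟩
      rw [hφ, Submodule.mem_bot] at this
      exact this
    obtain ⟨hc0, hd0⟩ := hind _ _ he
    refine hφp ?_
    rw [← Prod.mk.eta (p := p), hφval, eq_zero_of_pow_eq_zero hc0, eq_zero_of_pow_eq_zero hd0]
    ring
  set U : Submodule F Vs := L.ker.map X.subtype with hU
  have hUmem : ∀ z ∈ U, z ∈ X ∧ h z b = 0 ∧ h z b' = 0 := by
    rintro _ ⟨z, hz, rfl⟩
    exact ⟨z.2, congrArg Prod.fst (LinearMap.mem_ker.mp hz), congrArg Prod.snd (LinearMap.mem_ker.mp hz)⟩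
  obtain ⟨z₀, hz₀, hz₀0⟩ : ∃ z ∈ U, z ≠ 0 := by
    refine Submodule.exists_mem_ne_zero_of_ne_bot fun e => ?_
    have h1 := L.finrank_range_add_finrank_ker
    have h2 := L.range.finrank_le
    rw [Module.finrank_prod, Module.finrank_self] at h2
    have h4 := (Submodule.equivMapOfInjective _ X.subtype_injective L.ker).finrank_eq
    rw [← hU, e, finrank_bot] at h4
    omega
  have hzX := (hUmem z₀ hz₀).1
  obtain ⟨hz00, hz01⟩ := (hUmem z₀ hz₀).2
  by_cases hz₀z : h z₀ z₀ = 0
  · -- the orthogonal line is singular, so in the span of `b` and `b'`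
    obtain ⟨c, d, rfl⟩ : ∃ c d : F, c • b + d • b' = z₀ := by
      let Ψ : F × F × F →ₗ[F] X := (LinearMap.toSpanSingleton F X ⟨b, hb⟩).coprod
        ((LinearMap.toSpanSingleton F X ⟨b', hb'⟩).coprod (LinearMap.toSpanSingleton F X ⟨z₀, hzX⟩))
      have hΨ : ∀ p : F × F × F, (Ψ p : Vs) = p.1 • b + (p.2.1 • b' + p.2.2 • z₀) := fun p => rfl
      by_contra hno
      have hinj : Function.Injective Ψ := (injective_iff_map_eq_zero Ψ).2 fun p hp => by
        have e : p.1 • b + (p.2.1 • b' + p.2.2 • z₀) = 0 := (hΨ p).symm.trans (congrArg Subtype.val hp)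
        by_cases h0 : p.2.2 = 0
        · rw [h0, zero_smul, add_zero] at e
          obtain ⟨h1, h2⟩ := hind _ _ e
          exact Prod.ext h1 (Prod.ext h2 h0)
        · refine absurd ⟨-(p.1 / p.2.2), -(p.2.1 / p.2.2), ?_⟩ hno
          refine smul_right_injective Vs h0 ?_
          show p.2.2 • (-(p.1 / p.2.2) • b + -(p.2.1 / p.2.2) • b') = p.2.2 • z₀
          rw [smul_add, smul_smul, smul_smul, mul_neg, mul_neg, mul_div_cancel₀ _ h0,
            mul_div_cancel₀ _ h0, neg_smul, neg_smul]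
          rw [← add_assoc] at e
          rw [eq_neg_of_add_eq_zero_right e]
          abel
      have hsur : Function.Surjective Ψ := (LinearMap.injective_iff_surjective_of_finrank_eq_finrank
        (by rw [hdim, Module.finrank_prod, Module.finrank_prod, Module.finrank_self])).1 hinj
      obtain ⟨y, hy, hzy⟩ := hX z₀ hzX hz₀0
      obtain ⟨p, hp⟩ := hsur ⟨y, hy⟩
      refine hzy ?_
      rw [show y = p.1 • b + (p.2.1 • b' + p.2.2 • z₀) from (congrArg Subtype.val hp).symm.trans (hΨ p),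
        herm_add_right hF, herm_add_right hF, herm_smul_right hF, herm_smul_right hF, herm_smul_right hF,
        hz00, hz01, hz₀z]
      ring
    obtain ⟨ω, hω, hω0, hω1⟩ := exists_fixed_ne hF h3
    have hωδ : ω * δ + (ω * δ) ^ q = 0 := by rw [mul_pow, hω, ← mul_add, hδ, mul_zero]
    have hδq : δ ^ q = -δ := eq_neg_of_add_eq_zero_right hδ
    obtain ⟨e₁, e₂, h1, h1', h2, h2', hne⟩ : ∃ e₁ e₂ : F, e₁ + e₁ ^ q = 0 ∧ e₁ ≠ 0 ∧
        e₂ + e₂ ^ q = 0 ∧ e₂ ≠ 0 ∧ c * (r + e₁) ^ q + d * (r + e₂) ^ q ≠ 0 := by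
      by_contra hno
      push Not at hno
      have hA := hno δ δ hδ hδ0 hδ hδ0
      have hB := hno (ω * δ) δ hωδ (mul_ne_zero hω0 hδ0) hδ hδ0
      have hC := hno δ (ω * δ) hδ hδ0 hωδ (mul_ne_zero hω0 hδ0)
      simp only [q_add hF, mul_pow, hω, hδq, hr] at hA hB hC
      have hk : δ * (ω - 1) ≠ 0 := mul_ne_zero hδ0 (sub_ne_zero.2 hω1)
      have hc : c * (δ * (ω - 1)) = 0 := by linear_combination hA - hB
      have hd : d * (δ * (ω - 1)) = 0 := by linear_combination hA - hC
      rw [(mul_eq_zero.1 hc).resolve_right hk, (mul_eq_zero.1 hd).resolve_right hk, zero_smul,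
        zero_smul, add_zero] at hz₀0
      exact hz₀0 rfl
    obtain ⟨t₀, ht₀⟩ := (hsurj ▸ Submodule.mem_top : (r + e₁, r + e₂) ∈ L.range)
    have e1 : h (t₀ : Vs) b = r + e₁ := congrArg Prod.fst ht₀
    have e2 : h (t₀ : Vs) b' = r + e₂ := congrArg Prod.snd ht₀
    refine ⟨e₁, e₂, h1, h1', h2, h2', ?_⟩
    set z := c • b + d • b'
    set a := h z (t₀ : Vs) with ha
    have htz : a ≠ 0 := by
      rw [ha, herm_add_left hF, herm_smul_left hF, herm_smul_left hF, ← herm_conj hF (t₀ : Vs) b,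
        ← herm_conj hF (t₀ : Vs) b', e1, e2]
      exact hne
    have ha' : h (t₀ : Vs) z = a ^ q := by rw [ha, herm_conj hF]
    obtain ⟨τ, hτ⟩ := exists_trace_one hF
    set s := r - h (t₀ : Vs) t₀ with hs
    have hsq : s ^ q = s := by rw [hs, q_sub hF, hr, herm_conj hF]
    refine ⟨t₀ + (τ * s / a) • z, X.add_mem t₀.2 (X.smul_mem _ hzX), ?_, ?_, ?_⟩
    · rw [herm_add_left hF, e1, herm_smul_left hF, hz00, mul_zero, add_zero]
    · rw [herm_add_left hF, e2, herm_smul_left hF, hz01, mul_zero, add_zero]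
    · rw [herm_add_left hF, herm_add_right hF, herm_add_right hF, herm_smul_left hF, herm_smul_left hF,
        herm_smul_right hF, herm_smul_right hF, hz₀z, ha', ← ha, div_pow, mul_pow, hsq,
        div_mul_cancel₀ _ (pow_ne_zero q htz), div_mul_cancel₀ _ htz]
      linear_combination s * hτ + hs
  obtain ⟨t₀, ht₀⟩ := (hsurj ▸ Submodule.mem_top : (r + δ, r + δ) ∈ L.range)
  have e1 : h (t₀ : Vs) b = r + δ := congrArg Prod.fst ht₀
  have e2 : h (t₀ : Vs) b' = r + δ := congrArg Prod.snd ht₀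
  refine ⟨δ, δ, hδ, hδ0, hδ, hδ0, ?_⟩
  obtain ⟨c, hc⟩ := exists_norm_eq (qPowHom_ne_id hF) (qPowHom_qPowHom hF) (c := 1 / h z₀ z₀)
    (by rw [qPowHom_apply, div_pow, one_pow, herm_conj hF])
  rw [qPowHom_apply] at hc
  set z := c • z₀ with hzdef
  have hz : z ∈ X := X.smul_mem c hzX
  have hz0 : h z b = 0 := by rw [hzdef, herm_smul_left hF, hz00, mul_zero]
  have hz1 : h z b' = 0 := by rw [hzdef, herm_smul_left hF, hz01, mul_zero]
  have hzz : h z z = 1 := by
    rw [hzdef, herm_smul_left hF, herm_smul_right hF, ← mul_assoc, hc, div_mul_cancel₀ _ hz₀z]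
  clear_value z
  set t₁ : Vs := (t₀ : Vs) - h (t₀ : Vs) z • z with ht₁
  have ht₁z : h t₁ z = 0 := by rw [ht₁, h_sub_left hF, herm_smul_left hF, hzz, mul_one, sub_self]
  obtain ⟨μ, hμ⟩ := exists_norm_eq (qPowHom_ne_id hF) (qPowHom_qPowHom hF) (c := r - h t₁ t₁)
    (by rw [qPowHom_apply, q_sub hF, hr, herm_conj hF])
  rw [qPowHom_apply] at hμ
  refine ⟨t₁ + μ • z, X.add_mem (X.sub_mem t₀.2 (X.smul_mem _ hz)) (X.smul_mem _ hz), ?_, ?_, ?_⟩
  · rw [herm_add_left hF, ht₁, h_sub_left hF, herm_smul_left hF, herm_smul_left hF, e1, hz0]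
    ring
  · rw [herm_add_left hF, ht₁, h_sub_left hF, herm_smul_left hF, herm_smul_left hF, e2, hz1]
    ring
  · rw [herm_add_left hF, herm_add_right hF, herm_add_right hF, herm_smul_left hF, herm_smul_left hF,
      herm_smul_right hF, herm_smul_right hF, ht₁z, h_symm hF ht₁z, hzz]
    linear_combination hμ

/-- In a component of dimension three, mixed root vectors only depend on the other component. -/
theorem root_component3 (hH : H ≤ suGL n F q) (h3 : 3 ≤ q) {X : Submodule F Vs}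
    (hX : ∀ x ∈ X, x ≠ 0 → ∃ y ∈ X, h x y ≠ 0) (hdim : 3 ≤ Module.finrank F X)
    (hroot : ∀ x ∈ X, h x x = 0 → x ∈ root q H) {a b b' : Vs} (ha : ∀ x ∈ X, h a x = 0) (hb : b ∈ X)
    (hb0 : b ≠ 0) (hb' : b' ∈ X) (hb'0 : b' ≠ 0) (hnorm : h b b = h b' b') (hab : a + b ∈ root q H) :
    a + b' ∈ root q H := by
  rcases hdim.eq_or_lt' with hdim | hdim'
  swap
  · exact root_component4 hF hH hX hdim' hroot ha hb hb0 hb' hb'0 hnorm hab
  set r := h b b with hr
  have hrr : r ^ q = r := herm_conj hF b b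
  have haa : h a a + r = 0 := by
    have := hab.1
    rw [herm_add_left hF, herm_add_right hF, herm_add_right hF, ha b hb, h_symm hF (ha b hb), ← hr] at this
    linear_combination this
  -- one step
  have step : ∀ δ : F, δ + δ ^ q = 0 → δ ≠ 0 → ∀ s t : Vs, s ∈ X → t ∈ X → h s s = r → h t t = r → a + s ∈ root q H →
      h t s = r + δ ∨ h t s = r - δ → a + t ∈ root q H := by
    intro δ hδ hδ0 s t hs ht hss htt hroot' hts
    have hδq : δ ^ q = -δ := eq_neg_of_add_eq_zero_right hδ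
    have hd : t - s ∈ X := X.sub_mem ht hs
    have hst : h s t = h t s ^ q := (herm_conj hF t s).symm
    have hsum : h s t + h t s = r + r ∧ h s t ≠ r := by
      rw [hst]
      rcases hts with e | e <;>
      · rw [e]
        simp only [q_add hF, q_sub hF, hrr, hδq]
        exact ⟨by ring, fun e' => hδ0 (by first | linear_combination e' | linear_combination -e')⟩
    have hts0 : h (t - s) (t - s) = 0 := by
      simp only [h_sub_left hF, h_sub_right hF, hss, htt]
      linear_combination -hsum.1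
    have h1 : a + s + (t - s) = a + t := by abel
    rw [← h1]
    refine root_add hF hH hroot' (hroot _ hd hts0) ?_ ?_
    · rw [herm_add_left hF, ha _ hd, zero_add, h_sub_right hF, hss]
      exact sub_ne_zero.mpr hsum.2
    · rw [h1, herm_add_left hF, herm_add_right hF, herm_add_right hF, ha t ht, h_symm hF (ha t ht), htt]
      linear_combination haa
  have two : ∀ s s' : Vs, s ∈ X → s' ∈ X → h s s = r → h s' s' = r →
      (∀ c d : F, c • s + d • s' = 0 → c = 0 ∧ d = 0) → a + s ∈ root q H → a + s' ∈ root q H := by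
    intro s s' hs hs' hss hss' hind hsr
    obtain ⟨e₁, e₂, he₁, he₁0, he₂, he₂0, t, ht, h1, h2, h4⟩ := exists_prescribed3 hF hX hdim h3 hs hs' hind hrr
    refine step e₂ he₂ he₂0 t s' ht hs' h4 hss' (step e₁ he₁ he₁0 s t hs ht hss h4 hsr (Or.inl h1)) (Or.inr ?_)
    rw [← herm_conj hF t s', h2, q_add hF, hrr, eq_neg_of_add_eq_zero_right he₂, sub_eq_add_neg]
  by_cases hdep : ∀ c d : F, c • b + d • b' = 0 → c = 0 ∧ d = 0
  · exact two b b' hb hb' rfl hnorm.symm hdep hab
  · obtain ⟨b'', hb'', hzs, hzz⟩ := exists_orth_norm4 hF hX (show 2 * 1 < _ by omega) (fun _ => b)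
      (r := 1) (one_pow q)
    have hind : ∀ c d : F, c • b + d • b'' = 0 → c = 0 ∧ d = 0 := fun c d e => by
      have hd : d = 0 := by
        have := congrArg (h · b'') e
        simp only [herm_add_left hF, herm_smul_left hF, h_zero_left hF] at this
        rwa [h_symm hF (hzs 0), hzz, mul_zero, zero_add, mul_one] at this
      rw [hd, zero_smul, add_zero] at e
      exact ⟨(smul_eq_zero.mp e).resolve_right hb0, hd⟩
    obtain ⟨δ, -, hδ, hδ0, -, -, t, ht, h1, -, h4'⟩ := exists_prescribed3 hF hX hdim h3 hb hb'' hind hrr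
    have hδq : δ ^ q = -δ := eq_neg_of_add_eq_zero_right hδ
    have htb : ∀ μ : F, t ≠ μ • b := by
      intro μ e
      rw [e, herm_smul_left hF, ← hr] at h1
      rw [e, herm_smul_left hF, herm_smul_right hF, ← hr] at h4'
      have h4 := congrArg (· ^ q) h1
      simp only [mul_pow, q_add hF, hrr, hδq] at h4
      refine hδ0 (pow_eq_zero_iff two_ne_zero |>.mp (?_ : δ ^ 2 = 0))
      linear_combination -r * h4' + (μ ^ q * r) * h1 + (r + δ) * h4
    push Not at hdep
    obtain ⟨c, d, hcd, hne⟩ := hdep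
    have hd0 : d ≠ 0 := fun e => by
      subst e
      rw [zero_smul, add_zero] at hcd
      exact hne ((smul_eq_zero.mp hcd).resolve_right hb0) rfl
    have hb'eq : b' = (-c / d) • b := by
      rw [div_eq_inv_mul, mul_smul, neg_smul, eq_neg_of_add_eq_zero_left hcd, neg_neg, smul_smul,
        inv_mul_cancel₀ hd0, one_smul]
    refine two t b' ht hb' h4' hnorm.symm (fun x y e => ?_)
      (step δ hδ hδ0 b t hb ht rfl h4' hab (Or.inl h1))
    by_cases hx : x = 0
    · subst hx
      rw [zero_smul, zero_add] at e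
      exact ⟨rfl, (smul_eq_zero.mp e).resolve_right hb'0⟩
    · refine absurd ?_ (htb (-(y * (-c / d)) / x))
      rw [hb'eq, smul_smul, add_eq_zero_iff_eq_neg, ← neg_smul] at e
      rw [div_eq_inv_mul, mul_smul, ← e, smul_smul, inv_mul_cancel₀ hx, one_smul]

end Cfsg.Agent.Lib.TensorTwoThreeU
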