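import Cfsg.Agent.Lib.TensorForm.UnitaryMain
import Mathlib.FieldTheory.Perfect
import Mathlib.FieldTheory.IsAlgClosed.AlgebraicClosure
import Mathlib.LinearAlgebra.Matrix.Charpoly.Coeff

/-!
A self-adjoint map of a ternary hermitian space without an isotropic eigenvector has distinct eigenvalues,
and few pairs of isometries act on it by fractional linear maps.
-/

set_option autoImplicit false
set_option linter.unusedSectionVars false

namespace Cfsg.Agent.Lib.TensorTwoThreeU

open Matrix Polynomial Cfsg.Agent.Lib Cfsg.Agent.Lib.TensorMax Cfsg.Agent.Lib.TensorForm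

variable {F : Type*} [Field F] [Fintype F] {q : ℕ} {σ : F →+* F} {f : (Fin 3 → F) → (Fin 3 → F) → F}

/-- No isotropic eigenvector with fixed eigenvalue. -/
def NoIsoEig (σ : F →+* F) (f : (Fin 3 → F) → (Fin 3 → F) → F) (A : Matrix (Fin 3) (Fin 3) F) : Prop :=
  ∀ θ : F, σ θ = θ → ∀ u, u ≠ 0 → f u u = 0 → A *ᵥ u ≠ θ • u

/-- The Gram matrix. -/
def gram (f : (Fin 3 → F) → (Fin 3 → F) → F) : Matrix (Fin 3) (Fin 3) F :=
  Matrix.of fun i j => f (Pi.single i 1) (Pi.single j 1)

theorem eq_gram (hf : IsSForm σ 1 f) (v w : Fin 3 → F) : f v w = v ⬝ᵥ (gram f *ᵥ fun j => σ (w j)) := by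
  rw [← hf.dot_cov]
  congr 1
  funext i
  let R : (Fin 3 → F) →+ F :=
    { toFun := fun u => f (Pi.single i 1) u, map_zero' := hf.zero_right _, map_add' := hf.add_right _ }
  show R w = ∑ j, gram f i j * σ (w j)
  conv_lhs => rw [pi_eq_sum_univ' w, map_sum]
  refine Finset.sum_congr rfl fun j _ => ?_
  show f (Pi.single i 1) (w j • Pi.single j 1) = gram f i j * σ (w j)
  rw [hf.smul_right, mul_comm]
  rfl

theorem gram_det (hf : IsSForm σ 1 f) : (gram f).det ≠ 0 := by
  intro e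
  obtain ⟨v, hv0, hv⟩ := Matrix.exists_mulVec_eq_zero_iff.2 e
  have hw : (fun j => σ (v j)) ≠ 0 := fun e0 => hv0 (funext fun j => (map_eq_zero σ).1 (congrFun e0 j))
  obtain ⟨x, hx⟩ := hf.nondeg _ hw
  refine hx (hf.eq_zero_symm ?_)
  rw [eq_gram hf]
  simp only [hf.invol, hv, dotProduct_zero]

theorem map_iso (hf : IsSForm σ 1 f) {A : Matrix (Fin 3) (Fin 3) F}
    (hA : ∀ v w, f (A *ᵥ v) w = f v (A *ᵥ w)) : Aᵀ * gram f = gram f * A.map σ := by
  ext i j
  have h := hA (Pi.single i 1) (Pi.single j 1)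
  rw [eq_gram hf, eq_gram hf] at h
  have e1 : (fun k => σ ((Pi.single j 1 : Fin 3 → F) k)) = Pi.single j 1 :=
    funext fun k => by by_cases hk : k = j <;> simp [hk]
  have e2 : (fun k => σ ((A *ᵥ (Pi.single j 1 : Fin 3 → F)) k)) = fun k => σ (A k j) :=
    funext fun k => by simp
  rw [e1, e2, single_dotProduct, one_mul] at h
  simp [Matrix.mul_apply, dotProduct, mulVec_single] at h ⊢
  exact h

theorem charpoly_fixed (hf : IsSForm σ 1 f) {A : Matrix (Fin 3) (Fin 3) F}
    (hA : ∀ v w, f (A *ᵥ v) w = f v (A *ᵥ w)) : A.charpoly.map σ = A.charpoly := by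
  obtain ⟨G, hG⟩ : ∃ G : (Matrix (Fin 3) (Fin 3) F)ˣ, (G : Matrix (Fin 3) (Fin 3) F) = gram f :=
    ⟨Matrix.GeneralLinearGroup.mkOfDetNeZero _ (gram_det hf), rfl⟩
  have e : A.map σ = (↑G⁻¹ : Matrix (Fin 3) (Fin 3) F) * Aᵀ * (G : Matrix (Fin 3) (Fin 3) F) := by
    rw [Matrix.mul_assoc, hG, map_iso hf hA, ← hG, ← Matrix.mul_assoc, Units.inv_mul, Matrix.one_mul]
  rw [← Matrix.charpoly_map, e, Matrix.coe_units_inv, Matrix.charpoly_units_conj', Matrix.charpoly_transpose]

theorem charpoly_squarefree (hf : IsSForm σ 1 f) (hσ : σ ≠ RingHom.id F) {A : Matrix (Fin 3) (Fin 3) F}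
    (hA : ∀ v w, f (A *ᵥ v) w = f v (A *ᵥ w)) (hno : NoIsoEig σ f A) : Squarefree A.charpoly := by
  classical
  have hmon := Matrix.charpoly_monic A
  have hdeg : A.charpoly.natDegree = 3 := by rw [Matrix.charpoly_natDegree_eq_dim, Fintype.card_fin]
  rw [squarefree_iff_irreducible_sq_not_dvd_of_ne_zero hmon.ne_zero]
  intro p hp hdvd
  have hp1 : p.degree = 1 := by
    have h1 := Polynomial.natDegree_le_of_dvd hdvd hmon.ne_zero
    rw [Polynomial.natDegree_mul hp.ne_zero hp.ne_zero, hdeg] at h1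
    have h2 := hp.natDegree_pos
    rw [Polynomial.degree_eq_natDegree hp.ne_zero]
    norm_cast
    omega
  obtain ⟨r, hr⟩ := Polynomial.exists_root_of_degree_eq_one hp1
  have hr' : (X - C r) * (X - C r) ∣ A.charpoly :=
    (mul_dvd_mul (Polynomial.dvd_iff_isRoot.2 hr) (Polynomial.dvd_iff_isRoot.2 hr)).trans hdvd
  obtain ⟨h, hh⟩ := hr'
  have hm2 : ((X - C r) * (X - C r)).Monic := (monic_X_sub_C r).mul (monic_X_sub_C r)
  have hhm : h.Monic := hm2.of_mul_monic_left (hh ▸ hmon)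
  have hhd : h.natDegree = 1 := by
    have h1 := congrArg Polynomial.natDegree hh
    rw [hdeg, hm2.natDegree_mul hhm, (monic_X_sub_C r).natDegree_mul (monic_X_sub_C r), natDegree_X_sub_C] at h1
    omega
  obtain ⟨s, hs⟩ : ∃ s, h = X - C s := ⟨-(h.coeff 0), by
    rw [hhm.eq_X_add_C hhd, map_neg, sub_neg_eq_add]; simp⟩
  rw [hs] at hh
  have hfix := charpoly_fixed hf hA
  rw [hh, Polynomial.map_mul, Polynomial.map_mul, Polynomial.map_sub, Polynomial.map_sub, map_X, map_C, map_C] at hfix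
  have hσr : σ r = r := by
    by_contra hne
    have hco : IsCoprime ((X - C (σ r)) * (X - C (σ r))) ((X - C r) * (X - C r)) := by
      have h0 := isCoprime_X_sub_C_of_isUnit_sub (isUnit_iff_ne_zero.2 (sub_ne_zero.2 hne))
      exact (h0.mul_left h0).mul_right (h0.mul_left h0)
    have h2 := Polynomial.natDegree_le_of_dvd (hco.dvd_of_dvd_mul_left ⟨_, hfix.symm⟩) (X_sub_C_ne_zero s)
    rw [(monic_X_sub_C _).natDegree_mul (monic_X_sub_C _), natDegree_X_sub_C, natDegree_X_sub_C] at h2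
    omega
  rw [hσr] at hfix
  have hσs : σ s = s := by
    have h2 := mul_left_cancel₀ hm2.ne_zero hfix
    exact C_injective (sub_right_injective h2)
  obtain ⟨σe, -, hU⟩ := hf.exists_unitary hσ
  have hiso : ∀ W : Submodule F (Fin 3 → F), 2 ≤ Module.finrank F W →
      ∀ θ, σ θ = θ → (∀ u ∈ W, A *ᵥ u = θ • u) → False := fun W hW θ hθ hWA => by
    obtain ⟨z, hz, hz0, hzz⟩ := FormMax.UnitarySL.exists_isotropic_in hU hW
    exact hno θ hθ z hz0 hzz (hWA z hz)
  obtain ⟨N, hN⟩ : ∃ N : (Fin 3 → F) →ₗ[F] (Fin 3 → F), ∀ w, N w = A *ᵥ w - r • w :=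
    ⟨Matrix.mulVecLin A - r • LinearMap.id, fun w => rfl⟩
  obtain ⟨S, hS⟩ : ∃ S : (Fin 3 → F) →ₗ[F] (Fin 3 → F), ∀ w, S w = A *ᵥ w - s • w :=
    ⟨Matrix.mulVecLin A - s • LinearMap.id, fun w => rfl⟩
  have hCH : ∀ w, N (N (S w)) = 0 := fun w => by
    have h0 := Matrix.aeval_self_charpoly A
    rw [hh, map_mul, map_mul, map_sub, map_sub, aeval_X, aeval_C, aeval_C, Algebra.algebraMap_eq_smul_one,
      Algebra.algebraMap_eq_smul_one] at h0
    have h1 := congrArg (fun Q : Matrix (Fin 3) (Fin 3) F => Q *ᵥ w) h0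
    simp [← mulVec_mulVec, sub_mulVec, smul_mulVec, mulVec_sub, mulVec_smul] at h1
    simp only [hN, hS, mulVec_sub, mulVec_smul]
    linear_combination (norm := module) h1
  have hNsym : ∀ v w, f (N v) w = f v (N w) := fun v w => by
    rw [hN, hN, hf.sub_left, hf.sub_right, hf.smul_left, hf.smul_right, hσr, hA]
  have hNA : ∀ z, N z = 0 → A *ᵥ z = r • z := fun z hz => sub_eq_zero.1 (by rw [← hN, hz])
  have hNS : ∀ w, N (S w) = 0 := fun w => by
    by_contra hne
    exact hno r hσr _ hne (by rw [hNsym, hCH, hf.zero_right]) (hNA _ (hCH w))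
  rcases eq_or_ne r s with hrs | hrs
  · have hN0 : ∀ w, N w = 0 := fun w => by
      have hNN : N (N w) = 0 := by
        have : S w = N w := by rw [hS, hN, hrs]
        rw [← this, hNS]
      by_contra hne
      exact hno r hσr _ hne (by rw [hNsym, hNN, hf.zero_right]) (hNA _ hNN)
    exact hiso ⊤ (by rw [finrank_top, Module.finrank_fin_fun]; omega) r hσr fun u _ => hNA u (hN0 u)
  · have hSN : ∀ w, S (N w) = 0 := fun w => by
      rw [← hNS w, hS, hN, hN, hS]
      simp only [mulVec_sub, mulVec_smul, smul_sub]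
      module
    have hne : r - s ≠ 0 := sub_ne_zero.2 hrs
    have htop : LinearMap.ker N ⊔ LinearMap.ker S = ⊤ := eq_top_iff.2 fun w _ => by
      have e : w = (r - s)⁻¹ • S w + -((r - s)⁻¹ • N w) := by
        rw [hS, hN, ← sub_eq_add_neg, ← smul_sub, sub_sub_sub_cancel_left, ← sub_smul, smul_smul,
          inv_mul_cancel₀ hne, one_smul]
      rw [e]
      exact Submodule.add_mem_sup (Submodule.smul_mem _ _ (hNS w))
        (Submodule.neg_mem _ (Submodule.smul_mem _ _ (hSN w)))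
    have h1 := Submodule.finrank_sup_add_finrank_inf_eq (LinearMap.ker N) (LinearMap.ker S)
    rw [htop, finrank_top, Module.finrank_fin_fun] at h1
    by_cases h2 : 2 ≤ Module.finrank F (LinearMap.ker N)
    · exact hiso _ h2 r hσr fun u hu => hNA u hu
    · exact hiso (LinearMap.ker S) (by omega) s hσs fun u hu => sub_eq_zero.1 (by
        rw [← hS]; exact hu)

/-- Diagonalisation data of a self-adjoint map. -/
structure Diag (σ : F →+* F) (f : (Fin 3 → F) → (Fin 3 → F) → F) (A : Matrix (Fin 3) (Fin 3) F) (q : ℕ) where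
  θ : Fin 3 → AlgebraicClosure F
  w : Fin 3 → Fin 3 → AlgebraicClosure F
  φ : AlgebraicClosure F →+* AlgebraicClosure F
  τ : Fin 3 → Fin 3
  θ_inj : Function.Injective θ
  w_li : LinearIndependent (AlgebraicClosure F) w
  eig : ∀ i, A.map (algebraMap F (AlgebraicClosure F)) *ᵥ w i = θ i • w i
  φ_pow : ∀ a, φ a = a ^ q
  τ_inj : Function.Injective τ
  θ_τ : ∀ j, θ (τ j) = φ (θ j)
  pair : ∀ j, w (τ j) ⬝ᵥ ((gram f).map (algebraMap F (AlgebraicClosure F)) *ᵥ fun k => φ (w j k)) ≠ 0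

theorem exists_frob (hF : Fintype.card F = q ^ 2) :
    ∃ φ : AlgebraicClosure F →+* AlgebraicClosure F, ∀ a, φ a = a ^ q := by
  obtain ⟨p, hp⟩ := CharP.exists F
  obtain ⟨n, hpp, hn⟩ := FiniteField.card F p
  obtain ⟨m, -, rfl⟩ := (Nat.dvd_prime_pow hpp).1 (show q ∣ p ^ (n : ℕ) by rw [← hn, hF]; exact dvd_pow_self q two_ne_zero)
  haveI := charP_of_injective_algebraMap (algebraMap F (AlgebraicClosure F)).injective p
  haveI : ExpChar (AlgebraicClosure F) p := ExpChar.prime hpp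
  exact ⟨iterateFrobenius (AlgebraicClosure F) p m, fun a => iterateFrobenius_def p m a⟩

theorem exists_diag (hF : Fintype.card F = q ^ 2) (hσq : ∀ r, σ r = r ^ q) (hf : IsSForm σ 1 f)
    (hσ : σ ≠ RingHom.id F) {A : Matrix (Fin 3) (Fin 3) F}
    (hA : ∀ v w, f (A *ᵥ v) w = f v (A *ᵥ w)) (hno : NoIsoEig σ f A) : Nonempty (Diag σ f A q) := by
  classical
  set ι := algebraMap F (AlgebraicClosure F) with hι
  have hmon := Matrix.charpoly_monic A
  have hsep : (A.charpoly.map ι).Separable :=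
    (PerfectField.separable_iff_squarefree.2 (charpoly_squarefree hf hσ hA hno)).map
  have hcard : (A.charpoly.map ι).roots.toFinset.card = 3 := by
    rw [Multiset.toFinset_card_of_nodup (Polynomial.nodup_roots hsep), IsAlgClosed.card_roots_eq_natDegree,
      hmon.natDegree_map, Matrix.charpoly_natDegree_eq_dim, Fintype.card_fin]
  set θ : Fin 3 → AlgebraicClosure F :=
    fun i => ((A.charpoly.map ι).roots.toFinset.equivFinOfCardEq hcard).symm i with hθ
  have hθi : Function.Injective θ := Subtype.val_injective.comp (Equiv.injective _)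
  have hw : ∀ i, ∃ w : Fin 3 → AlgebraicClosure F, w ≠ 0 ∧ A.map ι *ᵥ w = θ i • w := fun i => by
    have h0 : ((A.map ι).charpoly).eval (θ i) = 0 := by
      rw [Matrix.charpoly_map]
      exact (Polynomial.mem_roots'.1 (Multiset.mem_toFinset.1
        (((A.charpoly.map ι).roots.toFinset.equivFinOfCardEq hcard).symm i).2)).2
    rw [Matrix.eval_charpoly] at h0
    obtain ⟨w, hw0, hw⟩ := Matrix.exists_mulVec_eq_zero_iff.2 h0
    refine ⟨w, hw0, ?_⟩
    rw [sub_mulVec, sub_eq_zero, scalar_apply, ← smul_one_eq_diagonal, smul_mulVec, one_mulVec] at hw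
    exact hw.symm
  choose w hw0 hweig using hw
  have hli : LinearIndependent (AlgebraicClosure F) w :=
    Module.End.eigenvectors_linearIndependent' (Matrix.mulVecLin (A.map ι)) θ hθi w fun i =>
      Module.End.hasEigenvector_iff.2 ⟨Module.End.mem_eigenspace_iff.2 (hweig i), hw0 i⟩
  obtain ⟨φ, hφ⟩ := exists_frob hF
  have hmat : (A.map ι)ᵀ * (gram f).map ι = (gram f).map ι * (A.map ι).map φ := by
    have e : (A.map ι).map φ = (A.map σ).map ι := Matrix.ext fun i j => by
      simp only [Matrix.map_apply, hφ, hσq, map_pow]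
    rw [e, ← Matrix.map_mul, ← map_iso hf hA, Matrix.map_mul, Matrix.transpose_map]
  have hdet : ((gram f).map ι).det ≠ 0 := by
    rw [← RingHom.mapMatrix_apply, ← RingHom.map_det]
    exact (map_ne_zero ι).2 (gram_det hf)
  have key : ∀ i j, (θ i - φ (θ j)) * (w i ⬝ᵥ ((gram f).map ι *ᵥ fun k => φ (w j k))) = 0 := fun i j => by
    have e1 : (A.map ι *ᵥ w i) ⬝ᵥ ((gram f).map ι *ᵥ fun k => φ (w j k))
        = w i ⬝ᵥ ((gram f).map ι *ᵥ ((A.map ι).map φ *ᵥ fun k => φ (w j k))) := by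
      rw [mulVec_mulVec, ← hmat, ← mulVec_mulVec, dotProduct_mulVec _ (A.map ι)ᵀ, vecMul_transpose]
    have e2 : ((A.map ι).map φ *ᵥ fun k => φ (w j k)) = φ (θ j) • fun k => φ (w j k) := by
      funext k
      have h := congrArg φ (congrFun (hweig j) k)
      rw [RingHom.map_mulVec, Pi.smul_apply, smul_eq_mul, map_mul] at h
      exact h
    rw [hweig, e2, mulVec_smul, smul_dotProduct, dotProduct_smul, smul_eq_mul, smul_eq_mul] at e1
    linear_combination e1
  have hex : ∀ j, ∃ i, w i ⬝ᵥ ((gram f).map ι *ᵥ fun k => φ (w j k)) ≠ 0 := fun j => by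
    by_contra hall
    push Not at hall
    have hW : IsUnit (Matrix.of w) := Matrix.linearIndependent_rows_iff_isUnit.1 hli
    have h0 := (Matrix.mulVec_injective_iff_isUnit.2 hW)
      (show Matrix.of w *ᵥ ((gram f).map ι *ᵥ fun k => φ (w j k)) = Matrix.of w *ᵥ 0 by
        rw [mulVec_zero]; exact funext hall)
    exact hdet (Matrix.exists_mulVec_eq_zero_iff.1 ⟨_, fun e => hw0 j (funext fun k =>
      (map_eq_zero φ).1 (congrFun e k)), h0⟩)
  choose τ hτ using hex
  have hθτ : ∀ j, θ (τ j) = φ (θ j) := fun j =>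
    sub_eq_zero.1 ((mul_eq_zero.1 (key (τ j) j)).resolve_right (hτ j))
  exact ⟨⟨θ, w, φ, τ, hθi, hli, hweig, hφ, fun i j e => hθi (φ.injective (by rw [← hθτ, ← hθτ, e])), hθτ, hτ⟩⟩

end Cfsg.Agent.Lib.TensorTwoThreeU
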