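import Cfsg.Agent.Lib.TensorForm.Component
import Cfsg.Agent.Lib.TensorForm.Concrete
import Cfsg.Agent.Lib.TensorForm.Herm
import Cfsg.Agent.Lib.TensorForm.Normal
import Cfsg.Agent.Lib.UnitaryMax.FrameEq
import Cfsg.Agent.Lib.UnitaryMax.Decomp
import Cfsg.Agent.Lib.TensorTwoThreeU.Component

/-!
Root vectors at all pure tensors of isotropic vectors give the whole special unitary group,
when the second factor has dimension three (adapted from TensorForm/Finish by helper24).
-/

set_option autoImplicit false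
set_option linter.unusedSectionVars false

namespace Cfsg.Agent.Lib.TensorTwoThreeU

open Matrix Cfsg.Agent.Lib Cfsg.Agent.Lib.TensorForm Cfsg.Agent.Lib.TensorMax Cfsg.Agent.Lib.UnitaryMax Cfsg.Agent.Lib.Forms

variable {F : Type*} [Field F] [Fintype F] {a b n q : ℕ}
  {f₁ : (Fin a → F) → (Fin a → F) → F} {f₂ : (Fin b → F) → (Fin b → F) → F}

local notation "Vs" => (Fin n → F)
local notation "h" => Cfsg.hermForm n F q

theorem eq_suGL_of_pure_three (hF : Fintype.card F = q ^ 2) (h1 : IsSForm (qPowHom hF) 1 f₁)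
    (h2 : IsSForm (qPowHom hF) 1 f₂) (ha : 2 ≤ a) (hb : b = 3) (hq3 : 3 ≤ q) (hn : 4 ≤ n)
    {H : Subgroup (GL (Fin n) F)} (hH : H ≤ suGL n F q)
    (L : Matrix (Fin a) (Fin b) F →ₗ[F] Vs) (hsur : Function.Surjective L)
    (hiso : ∀ X Y, h (L X) (L Y) = tB f₁ f₂ X Y)
    (hR : ∀ x c, f₁ x x = 0 → f₂ c c = 0 → L (vecMulVec x c) ∈ root q H) : H = suGL n F q := by
  classical
  have hσ := qPowHom_ne_id hF
  have hq : ∀ x : F, qPowHom hF x = x ^ q := qPowHom_apply hF
  have hpp : ∀ x y e d, h (L (vecMulVec x e)) (L (vecMulVec y d)) = f₂ e d * f₁ x y := fun x y e d => by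
    rw [hiso, tB_pure_pure h1 h2]
  obtain ⟨t₀, ht₀⟩ := herm_moved h1 hσ
  obtain ⟨δ, hδdef⟩ : ∃ d, d = t₀ - qPowHom hF t₀ := ⟨_, rfl⟩
  have hδ0 : δ ≠ 0 := hδdef ▸ sub_ne_zero.2 (Ne.symm ht₀)
  have hσδ : qPowHom hF δ = -δ := by rw [hδdef, map_sub, h1.invol]; ring
  have hδq : δ ^ q = -δ := by rw [← hq, hσδ]
  have hadd : ∀ u x : Vs, u ∈ root q H → x ∈ root q H → h u x ≠ 0 → h u x + qPowHom hF (h u x) = 0 →
      u + x ∈ root q H := fun u x hu hx hne hsk => by
    refine root_add hF hH hu hx hne ?_
    rw [herm_add_left hF, herm_add_right hF, herm_add_right hF, hu.1, hx.1]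
    rw [hq, herm_conj hF] at hsk
    linear_combination hsk
  obtain ⟨c₀, hc₀0, hc₀⟩ : ∃ c : Fin b → F, c ≠ 0 ∧ f₂ c c = 0 := by
    obtain ⟨e, he⟩ := herm_frame h2 hσ
    let i : Fin b := ⟨0, by omega⟩
    let j : Fin b := ⟨1, by omega⟩
    have hij : i ≠ j := by simp [i, j]
    obtain ⟨μ, hμ⟩ := herm_norm h2 hσ (r := -1) (by rw [map_neg, map_one])
    refine ⟨e i + μ • e j, fun h0 => ?_, ?_⟩
    · have := congrArg (fun v => f₂ v (e i)) h0
      simp [h2.add_left, h2.smul_left, he, hij.symm, h2.zero_left] at this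
    · simp only [h2.add_left, h2.add_right, h2.smul_left, h2.smul_right, he, if_neg hij, if_neg hij.symm,
        if_pos]
      linear_combination hμ
  -- all `y ⊗ e` with `e` isotropic
  have hC2 : ∀ y e, f₂ e e = 0 → L (vecMulVec y e) ∈ root q H := by
    intro y e he
    by_cases hy : f₁ y y = 0
    · exact hR y e hy he
    by_cases he0 : e = 0
    · have h0 := hR 0 c₀ (h1.zero_left _) hc₀
      simpa [he0, pure_zero_left, pure_zero_right] using h0
    obtain ⟨x, hx, hxy⟩ : ∃ x, f₁ x x = 0 ∧ f₁ y x ≠ 0 := by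
      obtain ⟨fr, hfr⟩ := herm_frame h1 hσ
      by_contra hno
      push Not at hno
      obtain ⟨μ, hμ⟩ := herm_norm h1 hσ (r := -1) (by rw [map_neg, map_one])
      obtain ⟨ω, hω, hω1, -⟩ := UnitaryMax.exists_norm_one hF
      rw [← hq] at hω
      have hμ0 : μ ≠ 0 := fun e => by rw [e, zero_mul] at hμ; exact one_ne_zero (by linear_combination hμ)
      have key : ∀ i j, i ≠ j → f₁ y (fr i) = 0 := by
        intro i j hij
        have hiso' : ∀ μ : F, μ * qPowHom hF μ = -1 → f₁ (fr i + μ • fr j) (fr i + μ • fr j) = 0 := by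
          intro μ hμ
          simp only [h1.add_left, h1.add_right, h1.smul_left, h1.smul_right, hfr, if_neg hij,
            if_neg hij.symm, if_pos]
          linear_combination hμ
        have e1 := hno _ (hiso' μ hμ)
        have e2 := hno _ (hiso' (μ * ω) (by rw [map_mul]; linear_combination (ω * qPowHom hF ω) * hμ - hω))
        rw [h1.add_right, h1.smul_right] at e1 e2
        rw [map_mul] at e2
        have hz : (qPowHom hF μ * (qPowHom hF ω - 1)) * f₁ y (fr j) = 0 := by linear_combination e2 - e1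
        have hne : qPowHom hF μ * (qPowHom hF ω - 1) ≠ 0 :=
          mul_ne_zero (fun e => hμ0 (by rw [← h1.invol μ, e, map_zero]))
            (sub_ne_zero.2 fun e => hω1 (by rw [← h1.invol ω, e, map_one]))
        rw [(mul_eq_zero.1 hz).resolve_left hne, mul_zero, add_zero] at e1
        exact e1
      refine hy ?_
      let R : (Fin a → F) →+ F :=
        { toFun := fun v => f₁ y v, map_zero' := h1.zero_right _, map_add' := h1.add_right y }
      have hspan : y ∈ Submodule.span F (Set.range fr) := by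
        have hli : LinearIndependent F fr := by
          rw [Fintype.linearIndependent_iff]
          intro g hg i
          let T : (Fin a → F) →ₗ[F] F :=
            { toFun := fun v => f₁ v (fr i)
              map_add' := fun p q => h1.add_left p q _
              map_smul' := fun c p => h1.smul_left c p _ }
          have h0 := congrArg T hg
          rw [map_sum, map_zero] at h0
          simp only [map_smul, smul_eq_mul] at h0
          change ∑ j, g j * f₁ (fr j) (fr i) = 0 at h0
          simpa [hfr] using h0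
        rw [hli.span_eq_top_of_card_eq_finrank' (by simp)]
        exact Submodule.mem_top
      obtain ⟨g, hg⟩ := (Submodule.mem_span_range_iff_exists_fun F).1 hspan
      show R y = 0
      rw [← hg, map_sum]
      refine Finset.sum_eq_zero fun i _ => ?_
      obtain ⟨j, hj⟩ : ∃ j, i ≠ j :=
        (Fintype.exists_ne_of_one_lt_card (by rw [Fintype.card_fin]; omega) i).imp fun _ => Ne.symm
      show f₁ y (g i • fr i) = 0
      rw [h1.smul_right, key i j hj, mul_zero]
    obtain ⟨t, ht⟩ := herm_fill h1 hσ hx hxy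
    set r := f₁ (y + t • x) x with hr
    have hrv : r = f₁ y x := by rw [hr, h1.add_left, h1.smul_left, hx, mul_zero, add_zero]
    have hr0 : r ≠ 0 := hrv ▸ hxy
    set y' := r⁻¹ • (y + t • x) with hy'
    have hy'y' : f₁ y' y' = 0 := by rw [hy', h1.smul_left, h1.smul_right, ht, mul_zero, mul_zero]
    have hyx' : f₁ y' x = 1 := by rw [hy', h1.smul_left, ← hr, inv_mul_cancel₀ hr0]
    have hxy' : f₁ x y' = 1 := by rw [herm_eq h1 y' x, hyx', map_one]
    set μ := -(t * δ) / r with hμdef
    have hyeq : L (vecMulVec y e) = (r / δ) • L (vecMulVec (μ • x + δ • y') e) := by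
      rw [← map_smul, ← pure_smul_left]
      congr 2
      rw [hy', hμdef, smul_add, smul_smul, smul_smul, smul_smul]
      have e1 : r / δ * δ * r⁻¹ = 1 := by field_simp
      have e2 : r / δ * (-(t * δ) / r) = -t := by field_simp
      rw [e1, e2, one_smul, neg_smul]
      abel
    have hμ' : qPowHom hF μ ≠ μ := by
      intro hμμ
      refine hy ?_
      have hy2 : f₁ (μ • x + δ • y') (μ • x + δ • y') = 0 := by
        simp only [h1.add_left, h1.add_right, h1.smul_left, h1.smul_right, hx, hxy', hyx', hy'y']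
        rw [hσδ, hμμ]; ring
      have h0 : y = (r / δ) • (μ • x + δ • y') := by
        rw [hy', hμdef, smul_add, smul_smul, smul_smul, smul_smul]
        have e1 : r / δ * δ * r⁻¹ = 1 := by field_simp
        have e2 : r / δ * (-(t * δ) / r) = -t := by field_simp
        rw [e1, e2, one_smul, neg_smul]
        abel
      rw [h0, h1.smul_left, h1.smul_right, hy2, mul_zero, mul_zero]
    obtain ⟨d, hd, hed⟩ := herm_partner h2 hσ he0 he hδ0
    have hde : f₂ d e = -δ := by rw [herm_eq h2 e d, hed, hσδ]
    obtain ⟨z, hze, hzd, hzz⟩ := herm_perp_pair h2 hσ (by omega) he hd (by rw [hed]; exact hδ0)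
      (r := -(μ + qPowHom hF μ)) (by rw [map_neg, map_add, h2.invol]; ring)
    set c := δ⁻¹ • e + μ • d + z with hc
    have hez := h2.eq_zero_symm hze
    have hdz := h2.eq_zero_symm hzd
    have hce : f₂ c e = -(μ * δ) := by
      simp only [hc, h2.add_left, h2.smul_left, he, hde, hze]; ring
    have hcd : f₂ c d = 1 := by
      simp only [hc, h2.add_left, h2.smul_left, hd, hed, hzd, mul_zero, add_zero, inv_mul_cancel₀ hδ0]
    have hcc : f₂ c c = 0 := by
      simp only [hc, h2.add_left, h2.add_right, h2.smul_left, h2.smul_right, he, hd, hed, hde, hzd, hze, hzz,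
        hez, hdz, map_inv₀, hσδ]
      field_simp
      ring
    have hec : f₂ e c = qPowHom hF μ * δ := by
      rw [herm_eq h2 c e, hce, map_neg, map_mul, hσδ]; ring
    have hdc : f₂ d c = 1 := by rw [herm_eq h2 c d, hcd, map_one]
    have hPP : f₂ (μ • e - c) (μ • e - c) = 0 := by
      simp only [h2.sub_left, h2.sub_right, h2.smul_left, h2.smul_right, he, hec, hce, hcc]
      ring
    have hQQ : f₂ (e - d) (e - d) = 0 := by
      simp only [h2.sub_left, h2.sub_right, he, hd, hed, hde]; ring
    have hv : L (vecMulVec x c) + L (vecMulVec (δ • y') d) ∈ root q H := by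
      refine hadd _ _ (hR x c hx hcc) (hR _ d (by rw [h1.smul_left, h1.smul_right, hy'y', mul_zero, mul_zero]) hd)
        ?_ ?_ <;> rw [hpp, hcd, h1.smul_right, hxy', hσδ, one_mul, mul_one]
      · exact neg_ne_zero.2 hδ0
      · rw [map_neg, hσδ]; ring
    have hzR : L (vecMulVec x (μ • e - c)) + L (vecMulVec (δ • y') (e - d)) ∈ root q H := by
      have hval : h (L (vecMulVec x (μ • e - c))) (L (vecMulVec (δ • y') (e - d))) = -δ := by
        rw [hpp, h1.smul_right, hxy', hσδ]
        simp only [h2.sub_left, h2.sub_right, h2.smul_left, he, hed, hce, hcd]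
        ring
      refine hadd _ _ (hR x _ hx hPP) (hR _ _ (by rw [h1.smul_left, h1.smul_right, hy'y', mul_zero, mul_zero]) hQQ)
        ?_ ?_ <;> rw [hval]
      · exact neg_ne_zero.2 hδ0
      · rw [map_neg, hσδ]; ring
    have hsum := hadd _ _ hv hzR
    have hval : h (L (vecMulVec x c) + L (vecMulVec (δ • y') d))
        (L (vecMulVec x (μ • e - c)) + L (vecMulVec (δ • y') (e - d))) = δ * δ * (μ - qPowHom hF μ) := by
      simp only [herm_add_left hF, herm_add_right hF, hpp, h1.smul_left, h1.smul_right, hx, hxy', hyx',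
        hy'y', hσδ, h2.sub_right, h2.smul_right, hcc, hce, hcd, hdc, hde, hd]
      ring
    have hfin := hsum
      (by rw [hval]; exact mul_ne_zero (mul_ne_zero hδ0 hδ0) (sub_ne_zero.2 (Ne.symm hμ')))
      (by rw [hval, map_mul, map_mul, map_sub, h1.invol, hσδ]; ring)
    rw [hyeq]
    refine root_smul hF ?_ _
    convert hfin using 1
    simp only [pure_add_left, pure_sub_right, pure_smul_left, pure_smul_right, map_add, map_sub, map_smul,
      smul_sub]
    abel
  -- coordinates along an orthonormal basis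
  obtain ⟨fr, hfr⟩ := herm_frame h1 hσ
  let Lc : (Fin a → Fin b → F) →ₗ[F] Vs :=
    { toFun := fun r => ∑ i, L (vecMulVec (fr i) (r i))
      map_add' := fun r s => by
        rw [← Finset.sum_add_distrib]
        exact Finset.sum_congr rfl fun i _ => by rw [← map_add, ← pure_add_right]; rfl
      map_smul' := fun c r => by
        rw [RingHom.id_apply, Finset.smul_sum]
        exact Finset.sum_congr rfl fun i _ => by rw [← map_smul, ← pure_smul_right]; rfl }
  have hLc : ∀ r s, h (Lc r) (Lc s) = ∑ i, f₂ (r i) (s i) := by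
    intro r s
    simp only [Lc, LinearMap.coe_mk, AddHom.coe_mk]
    rw [herm_sum_left' hF]
    refine Finset.sum_congr rfl fun i _ => ?_
    rw [herm_sum_right' hF]
    simp only [hpp, hfr]
    simp
  have hsingle : ∀ i (e : Fin b → F), Lc (Pi.single i e) = L (vecMulVec (fr i) e) := by
    intro i e
    show ∑ j, L (vecMulVec (fr j) ((Pi.single i e : Fin a → Fin b → F) j)) = _
    rw [Finset.sum_eq_single i (fun j _ hj => by
      rw [Pi.single_eq_of_ne hj, pure_zero_right, map_zero]) (by simp), Pi.single_eq_same]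
  have hLcinj : Function.Injective Lc := (injective_iff_map_eq_zero Lc).2 fun r hr => by
    funext i
    by_contra hne
    obtain ⟨d, hd⟩ := h2.nondeg (r i) hne
    refine hd ?_
    have h0 := hLc r (Pi.single i d)
    rw [hr, UnitaryMax.h_zero_left hF, Finset.sum_eq_single i (fun j _ hj => by
      rw [Pi.single_eq_of_ne hj, h2.zero_right]) (by simp), Pi.single_eq_same] at h0
    exact h0.symm
  have hLcsur : Function.Surjective Lc := by
    intro v
    obtain ⟨X, rfl⟩ := hsur v
    have hli : LinearIndependent F fr := by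
      rw [Fintype.linearIndependent_iff]
      intro g hg i
      let T : (Fin a → F) →ₗ[F] F :=
        { toFun := fun v => f₁ v (fr i)
          map_add' := fun p q => h1.add_left p q _
          map_smul' := fun c p => h1.smul_left c p _ }
      have h0 := congrArg T hg
      rw [map_sum, map_zero] at h0
      simp only [map_smul, smul_eq_mul] at h0
      change ∑ j, g j * f₁ (fr j) (fr i) = 0 at h0
      simpa [hfr] using h0
    have hspan : ∀ x : Fin a → F, x ∈ Submodule.span F (Set.range fr) := fun x => by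
      rw [hli.span_eq_top_of_card_eq_finrank' (by simp)]; exact Submodule.mem_top
    rw [eq_sum_rows X, map_sum]
    have hmem : ∀ i : Fin a, L (vecMulVec (Pi.single i 1) (X i)) ∈ LinearMap.range Lc := fun i => by
      obtain ⟨g, hg⟩ := (Submodule.mem_span_range_iff_exists_fun F).1 (hspan (Pi.single i 1))
      refine ⟨fun j => g j • X i, ?_⟩
      show ∑ j, L (vecMulVec (fr j) (g j • X i)) = _
      rw [← map_sum, ← hg]
      congr 1
      ext p q
      simp only [Matrix.sum_apply, vecMulVec_apply, Finset.sum_apply, Pi.smul_apply, smul_eq_mul,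
        Finset.sum_mul]
      exact Finset.sum_congr rfl fun j _ => by ring
    exact Submodule.sum_mem (LinearMap.range Lc) fun i _ => hmem i
  -- induction on the support
  let Xk : ℕ → Submodule F Vs := fun k =>
    (⨅ i : Fin a, ⨅ _ : k ≤ i.val, LinearMap.ker (LinearMap.proj (R := F) (φ := fun _ : Fin a => Fin b → F) i)).map Lc
  have hXk : ∀ k r, Lc r ∈ Xk k ↔ ∀ i : Fin a, k ≤ i.val → r i = 0 := by
    intro k r
    constructor
    · rintro ⟨r', hr', he⟩ i hi
      rw [← hLcinj he]
      exact (Submodule.mem_iInf _).1 ((Submodule.mem_iInf _).1 hr' i) hi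
    · intro hr
      exact ⟨r, (Submodule.mem_iInf _).2 fun i => (Submodule.mem_iInf _).2 fun hi => hr i hi, rfl⟩
  let Dj : Fin a → Submodule F Vs := fun j => LinearMap.range (Lc ∘ₗ LinearMap.single F (fun _ : Fin a => Fin b → F) j)
  have hDdim : ∀ j, 3 ≤ Module.finrank F (Dj j) := fun j => by
    have h0 := LinearMap.finrank_range_of_inj
      (f := Lc ∘ₗ LinearMap.single F (fun _ : Fin a => Fin b → F) j) (hLcinj.comp (Pi.single_injective (M := fun _ : Fin a => Fin b → F) j))
    rw [Module.finrank_fin_fun] at h0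
    exact hb.ge.trans h0.symm.le
  have hDroot : ∀ j, ∀ x ∈ Dj j, h x x = 0 → x ∈ root q H := by
    rintro j _ ⟨e, rfl⟩ hx
    show Lc (Pi.single j e) ∈ _
    change h (Lc (Pi.single j e)) (Lc (Pi.single j e)) = 0 at hx
    rw [hsingle] at hx ⊢
    rw [hpp, hfr, if_pos rfl, mul_one] at hx
    exact hC2 _ e hx
  have hnd : ∀ r, Lc r ≠ 0 → ∃ i, ∃ d, h (Lc r) (Lc (Pi.single i d)) ≠ 0 ∧ r i ≠ 0 := by
    intro r hr
    obtain ⟨i, hi⟩ : ∃ i, r i ≠ 0 := by
      by_contra hall
      push Not at hall
      exact hr (by rw [show r = 0 from funext hall, map_zero])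
    obtain ⟨d, hd⟩ := h2.nondeg _ hi
    refine ⟨i, d, ?_, hi⟩
    rw [hLc, Finset.sum_eq_single i (fun j _ hj => by
      rw [Pi.single_eq_of_ne hj, h2.zero_right]) (by simp), Pi.single_eq_same]
    exact hd
  have hDnd : ∀ j, ∀ x ∈ Dj j, x ≠ 0 → ∃ y ∈ Dj j, h x y ≠ 0 := by
    rintro j _ ⟨e, rfl⟩ hx
    change Lc (Pi.single j e) ≠ 0 at hx
    obtain ⟨i, d, hd, hi⟩ := hnd _ hx
    have hij : i = j := by
      by_contra hne
      exact hi (Pi.single_eq_of_ne (M := fun _ : Fin a => Fin b → F) hne e)
    subst hij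
    exact ⟨_, ⟨d, rfl⟩, hd⟩
  have hXnd : ∀ k, ∀ x ∈ Xk k, x ≠ 0 → ∃ y ∈ Xk k, h x y ≠ 0 := by
    intro k x hx hx0
    obtain ⟨r, rfl⟩ := hLcsur x
    obtain ⟨i, d, hd, hi⟩ := hnd r hx0
    refine ⟨_, (hXk k _).2 fun l hl => ?_, hd⟩
    refine Pi.single_eq_of_ne (fun e => hi ?_) _
    exact (hXk k r).1 hx i (e ▸ hl)
  let i₀ : Fin a := ⟨0, by omega⟩
  have hXdim : ∀ k, 1 ≤ k → 3 ≤ Module.finrank F (Xk k) := fun k hk =>
    (hDdim i₀).trans (Submodule.finrank_mono (by
      rintro _ ⟨e, rfl⟩
      refine (hXk k _).2 fun l hl => Pi.single_eq_of_ne (fun h' => ?_) _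
      rw [h'] at hl
      simp [i₀] at hl
      omega))
  obtain ⟨ω, hω, -, -, hωq⟩ := UnitaryMax.exists_omega hF (F := F)
  rw [mem_normOne] at hω
  obtain ⟨κ, hκ⟩ := herm_norm h1 hσ (r := -1) (by rw [map_neg, map_one])
  have hall : ∀ k, k ≤ a → ∀ x ∈ Xk k, h x x = 0 → x ∈ root q H := by
    intro k
    induction k with
    | zero =>
      intro _ x hx _
      obtain ⟨r, rfl⟩ := hLcsur x
      rw [show r = 0 from funext fun i => (hXk 0 r).1 hx i (Nat.zero_le _), map_zero]
      have h0 := hR 0 c₀ (h1.zero_left _) hc₀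
      rwa [pure_zero_left, map_zero] at h0
    | succ k ih =>
      intro hk x hx hxx
      obtain ⟨r, rfl⟩ := hLcsur x
      let j : Fin a := ⟨k, by omega⟩
      have hsplit : Lc r = Lc (Pi.single j (r j)) + Lc (Function.update r j 0) := by
        rw [← map_add]
        congr 1
        funext l
        rcases eq_or_ne l j with rfl | hl
        · simp
        · simp [hl]
      have hB₀ : Lc (Function.update r j 0) ∈ Xk k := (hXk k _).2 fun l hl => by
        rcases eq_or_ne l j with rfl | hlj
        · simp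
        · rw [Function.update_of_ne hlj]
          exact (hXk _ r).1 hx l (by
            have : l.val ≠ k := fun e => hlj (Fin.ext e)
            omega)
      have horth : ∀ y ∈ Xk k, ∀ e, h y (Lc (Pi.single j e)) = 0 := by
        intro y hy e
        obtain ⟨s, rfl⟩ := hLcsur y
        rw [hLc]
        refine Finset.sum_eq_zero fun l _ => ?_
        rcases eq_or_ne l j with rfl | hl
        · rw [(hXk k s).1 hy _ le_rfl, h2.zero_left]
        · rw [Pi.single_eq_of_ne hl, h2.zero_right]
      set A₀ := Lc (Pi.single j (r j)) with hA₀def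
      set B₀ := Lc (Function.update r j 0) with hB₀def
      have hnorm : h A₀ A₀ + h B₀ B₀ = 0 := by
        rw [hsplit] at hxx
        rw [herm_add_left hF, herm_add_right hF, herm_add_right hF, horth _ hB₀, UnitaryMax.h_symm hF
          (horth _ hB₀ (r j))] at hxx
        linear_combination hxx
      by_cases hA0 : A₀ = 0
      · rw [hsplit, hA0, zero_add]
        exact ih (by omega) _ hB₀ (by rw [hA0, UnitaryMax.h_zero_left hF, zero_add] at hnorm; exact hnorm)
      by_cases hB0 : B₀ = 0
      · rw [hsplit, hB0, add_zero]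
        exact hDroot j _ ⟨r j, rfl⟩ (by rw [hB0, UnitaryMax.h_zero_left hF, add_zero] at hnorm; exact hnorm)
      have hk1 : 1 ≤ k := by
        by_contra h0
        obtain ⟨s, hs⟩ := hLcsur B₀
        refine hB0 ?_
        rw [← hs, show s = 0 from funext fun i => (hXk k s).1 (hs ▸ hB₀) i (by omega), map_zero]
      have hj0 : i₀ ≠ j := by simp [i₀, j, Fin.ext_iff]; omega
      -- a mixed root vector with the same norms
      obtain ⟨u₀, u₁, hu₀, hu₁, hu, hw⟩ : ∃ u₀ u₁ : Fin b → F, u₀ ≠ 0 ∧ u₁ ≠ 0 ∧
          h (Lc (Pi.single i₀ u₀)) (Lc (Pi.single i₀ u₀)) = h B₀ B₀ ∧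
          Lc (Pi.single i₀ u₀) + Lc (Pi.single j u₁) ∈ root q H := by
        have hs0 : ∀ u, h (Lc (Pi.single i₀ u)) (Lc (Pi.single i₀ u)) = f₂ u u := fun u => by
          rw [hsingle, hpp, hfr, if_pos rfl, mul_one]
        by_cases hr0 : h B₀ B₀ = 0
        · refine ⟨c₀, c₀, hc₀0, hc₀0, by rw [hs0, hc₀, hr0], ?_⟩
          rw [hsingle, hsingle, ← map_add, ← pure_add_left]
          exact hC2 _ _ hc₀
        have hκ' : (κ * ω) * qPowHom hF (κ * ω) = -1 := by
          rw [map_mul, hq ω]; linear_combination (ω * ω ^ q) * hκ - hω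
        have hx : ∀ μ : F, μ * qPowHom hF μ = -1 → f₁ (fr i₀ + μ • fr j) (fr i₀ + μ • fr j) = 0 := by
          intro μ hμ
          simp only [h1.add_left, h1.add_right, h1.smul_left, h1.smul_right, hfr, if_neg hj0,
            if_neg hj0.symm, if_pos]
          linear_combination hμ
        obtain ⟨d, hd, hcd⟩ := herm_partner h2 hσ hc₀0 hc₀ (δ := 1) one_ne_zero
        have hdc : f₂ d c₀ = 1 := by rw [herm_eq h2 c₀ d, hcd, map_one]
        have hne : (1 : F) - qPowHom hF ω ≠ 0 := sub_ne_zero.2 fun e => hωq (by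
          have e' : ω = 1 := by rw [← h1.invol ω, ← e, map_one]
          rw [e', one_pow])
        obtain ⟨s, hsdef⟩ : ∃ s, s = qPowHom hF (δ / (1 - qPowHom hF ω)) := ⟨_, rfl⟩
        have hσs : qPowHom hF s = δ / (1 - qPowHom hF ω) := hsdef ▸ h1.invol _
        have hroot := hadd _ _ (hR _ c₀ (hx κ hκ) hc₀)
          (hR _ (s • d) (hx _ hκ') (by rw [h2.smul_left, h2.smul_right, hd, mul_zero, mul_zero]))
        have hval : h (L (vecMulVec (fr i₀ + κ • fr j) c₀)) (L (vecMulVec (fr i₀ + (κ * ω) • fr j) (s • d)))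
            = δ := by
          rw [hpp, h2.smul_right, hcd, hσs]
          simp only [h1.add_left, h1.add_right, h1.smul_left, h1.smul_right, hfr, if_neg hj0,
            if_neg hj0.symm, if_pos, map_mul]
          field_simp
          linear_combination (qPowHom hF ω) * hκ
        have hroot' := hroot (by rw [hval]; exact hδ0) (by rw [hval, hσδ, add_neg_cancel])
        set w₀ := c₀ + s • d with hw₀
        set w₁ := κ • c₀ + (κ * ω) • (s • d) with hw₁
        have hN : f₂ w₀ w₀ = s + qPowHom hF s := by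
          simp only [hw₀, h2.add_left, h2.add_right, h2.smul_left, h2.smul_right, hc₀, hcd, hdc, hd]
          ring
        have hN0 : f₂ w₀ w₀ ≠ 0 := by
          rw [hN, hσs, hsdef, map_div₀, map_sub, map_one, h1.invol, hσδ]
          have hne' : (1 : F) - ω ≠ 0 := sub_ne_zero.2 fun e => hωq (by rw [← e, one_pow])
          intro h0
          field_simp at h0
          have : δ * (qPowHom hF ω - ω) = 0 := by linear_combination h0
          exact mul_ne_zero hδ0 (sub_ne_zero.2 (by rw [hq]; exact hωq)) this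
        have hNq : qPowHom hF (f₂ w₀ w₀) = f₂ w₀ w₀ := herm_fixed h2 w₀
        obtain ⟨lam, hlam⟩ := herm_norm h2 hσ (r := h B₀ B₀ / f₂ w₀ w₀)
          (by rw [map_div₀, hNq, hq, herm_conj hF])
        have hlam0 : lam ≠ 0 := fun e => by
          rw [e, zero_mul] at hlam
          exact div_ne_zero hr0 hN0 hlam.symm
        have heq : L (vecMulVec (fr i₀ + κ • fr j) c₀) + L (vecMulVec (fr i₀ + (κ * ω) • fr j) (s • d))
            = Lc (Pi.single i₀ w₀) + Lc (Pi.single j w₁) := by
          rw [hsingle, hsingle, hw₀, hw₁]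
          simp only [pure_add_left, pure_add_right, pure_smul_left, pure_smul_right, map_add, map_smul,
            smul_smul]
          module
        have hw₁0 : w₁ ≠ 0 := by
          intro e
          have h' := congrArg (fun v => f₂ v d) e
          simp only [hw₁, h2.add_left, h2.smul_left, hcd, hd, mul_zero, add_zero, mul_one,
            h2.zero_left] at h'
          rw [h', zero_mul] at hκ
          exact one_ne_zero (by linear_combination hκ)
        refine ⟨lam • w₀, lam • w₁, smul_ne_zero hlam0 fun e => hN0 (by rw [e, h2.zero_left]),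
          smul_ne_zero hlam0 hw₁0, ?_, ?_⟩
        · rw [hs0, h2.smul_left, h2.smul_right, ← mul_assoc, hlam, div_mul_cancel₀ _ hN0]
        · have h' := root_smul hF (heq ▸ hroot') lam
          rwa [smul_add, ← map_smul, ← map_smul, ← Pi.single_smul, ← Pi.single_smul] at h'
      have hi₀X : Lc (Pi.single i₀ u₀) ∈ Xk k := (hXk k _).2 fun l hl => Pi.single_eq_of_ne (fun e => by
        rw [e] at hl; simp [i₀] at hl; omega) _
      have hu₁norm : h (Lc (Pi.single j u₁)) (Lc (Pi.single j u₁)) = h A₀ A₀ := by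
        have h0 := hw.1
        rw [herm_add_left hF, herm_add_right hF, herm_add_right hF, horth _ hi₀X,
          UnitaryMax.h_symm hF (horth _ hi₀X u₁), hu] at h0
        linear_combination h0 - hnorm
      have hne0 : ∀ i u, u ≠ (0 : Fin b → F) → Lc (Pi.single i u) ≠ 0 := fun i u hu h0 => hu (by
        simpa using congrFun (hLcinj (h0.trans (map_zero Lc).symm)) i)
      have step1 : Lc (Pi.single i₀ u₀) + A₀ ∈ root q H :=
        root_component3 hF hH hq3 (hDnd j) (hDdim j) (hDroot j) (a := Lc (Pi.single i₀ u₀))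
          (by rintro _ ⟨e, rfl⟩; exact horth _ hi₀X e) (b := Lc (Pi.single j u₁)) ⟨u₁, rfl⟩ (hne0 j u₁ hu₁)
          ⟨r j, rfl⟩ hA0 hu₁norm hw
      have step2 : A₀ + B₀ ∈ root q H :=
        root_component3 hF hH hq3 (hXnd k) (hXdim k hk1) (ih (by omega)) (a := A₀)
          (fun y hy => UnitaryMax.h_symm hF (horth y hy (r j))) hi₀X (hne0 i₀ u₀ hu₀) hB₀ hB0 hu
          (by rwa [add_comm])
      rwa [hsplit]
  refine eq_suGL hF (by omega) (by omega) hH fun v hv => ?_
  obtain ⟨r, rfl⟩ := hLcsur v
  exact hall a le_rfl _ ((hXk a r).2 fun i hi => absurd i.isLt (by omega)) hv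
where
  herm_sum_left' {κ : Type} [Fintype κ] (hF : Fintype.card F = q ^ 2) {x : κ → Vs} {w : Vs} :
      h (∑ i, x i) w = ∑ i, h (x i) w := UnitaryMax.herm_sum_left hF _ x w
  herm_sum_right' {κ : Type} [Fintype κ] (hF : Fintype.card F = q ^ 2) {x : κ → Vs} {w : Vs} :
      h w (∑ i, x i) = ∑ i, h w (x i) := UnitaryMax.herm_sum_right hF _ x w

end Cfsg.Agent.Lib.TensorTwoThreeU
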