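import Cfsg.Agent.Lib.TensorTwoThreeU.Bound
import Cfsg.Agent.Lib.TensorTwoThreeU.Finish

/-!
The stabiliser of a `2 ⊗ 3` unitary tensor decomposition is maximal in `SU₆(q)` for `q ≥ 3`.
-/

set_option autoImplicit false
set_option linter.unusedSectionVars false

namespace Cfsg.Agent.Lib.TensorTwoThreeU

open Cfsg
open Matrix Cfsg.Agent.Lib Cfsg.Agent.Lib.TensorMax Cfsg.Agent.Lib.TensorForm Cfsg.Agent.Lib.UnitaryMax
  Cfsg.Agent.Lib.Forms

theorem isMaximalIn_tensorSU_two_three {F : Type*} [Field F] [Fintype F] {q : ℕ}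
    {f₁ : (Fin 2 → F) → (Fin 2 → F) → F} {f₂ : (Fin 3 → F) → (Fin 3 → F) → F}
    (hF : Fintype.card F = q ^ 2) (hq3 : 3 ≤ q) (h1 : IsSForm (qPowHom hF) 1 f₁)
    (h2 : IsSForm (qPowHom hF) 1 f₂) (Φ : GL (Fin 2 × Fin 3) F ≃* GL (Fin 6) F)
    (L : Matrix (Fin 2) (Fin 3) F →ₗ[F] (Fin 6 → F)) (hbij : Function.Bijective L)
    (hL : ∀ g X, L (op g X) = (Φ g : Matrix (Fin 6) (Fin 6) F) *ᵥ L X)
    (hdet : ∀ g, (Φ g : Matrix (Fin 6) (Fin 6) F).det = (g : Matrix (Fin 2 × Fin 3) (Fin 2 × Fin 3) F).det)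
    (hiso : ∀ X Y, Cfsg.hermForm 6 F q (L X) (L Y) = tB f₁ f₂ X Y) :
    Cfsg.Geo.IsMaximalIn (suGL 6 F q)
      ((Cfsg.Geo.kroneckerSubgroup 2 3 F).map Φ.toMonoidHom ⊓ suGL 6 F q) := by
  classical
  have hσ := qPowHom_ne_id hF
  have hq : ∀ x : F, qPowHom hF x = x ^ q := qPowHom_apply hF
  have hsame : ∀ g : GL (Fin 2 × Fin 3) F, Φ g ∈ suGL 6 F q ↔
      (∀ X Y, tB f₁ f₂ (op g X) (op g Y) = tB f₁ f₂ X Y) ∧
        (g : Matrix (Fin 2 × Fin 3) (Fin 2 × Fin 3) F).det = 1 := by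
    intro g
    rw [mem_suGL_iff, hdet]
    refine and_congr_left fun _ => ⟨fun h X Y => ?_, fun h u v => ?_⟩
    · rw [← hiso, ← hiso, hL, hL, h]
    · obtain ⟨X, rfl⟩ := hbij.2 u
      obtain ⟨Y, rfl⟩ := hbij.2 v
      rw [← hL, ← hL, hiso, hiso, h]
  have hTv : ∀ (g : GL (Fin 2 × Fin 3) F) x c (k : F) (hv : Cfsg.hermForm 6 F q (L (vecMulVec x c)) (L (vecMulVec x c)) = 0),
      (∀ X, op g X = X + (k * f₁ (X *ᵥ cov f₂ c) x) • vecMulVec x c) →
      Φ g = UnitaryMax.T (L (vecMulVec x c)) k hv := fun g x c k hv hg => by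
    refine FormMax.gl_ext fun u => ?_
    obtain ⟨X, rfl⟩ := hbij.2 u
    rw [← hL, hg, map_add, map_smul, UnitaryMax.T_mulVec, hiso, tB_pure h1 h2]
  obtain ⟨t₀, ht₀⟩ := herm_moved h1 hσ
  have hskew0 : (t₀ - qPowHom hF t₀) + qPowHom hF (t₀ - qPowHom hF t₀) = 0 := by
    rw [map_sub, h1.invol]; ring
  refine ⟨lt_of_le_of_ne inf_le_right fun he => ?_, fun H hKH hHG => ?_⟩
  · obtain ⟨σe, -, hU⟩ := h1.exists_unitary hσ
    obtain ⟨σe', -, hU'⟩ := h2.exists_unitary hσ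
    obtain ⟨x, -, hx0, hx⟩ := FormMax.UnitarySL.exists_isotropic_in hU (W := ⊤)
      (by rw [finrank_top, Module.finrank_fin_fun])
    obtain ⟨c, -, hc0, hc⟩ := FormMax.UnitarySL.exists_isotropic_in hU' (W := ⊤)
      (by rw [finrank_top, Module.finrank_fin_fun]; omega)
    have hv : Cfsg.hermForm 6 F q (L (vecMulVec x c)) (L (vecMulVec x c)) = 0 := by
      rw [hiso, tB_pure_pure h1 h2, hc, zero_mul]
    set k := t₀ - qPowHom hF t₀ with hk
    have hT := T_mem hF (L (vecMulVec x c)) (c := k) hv (by rw [← hq]; exact hskew0)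
    obtain ⟨g, hgk, hg⟩ := (he.ge hT).1
    have hgX : ∀ X, op g X = X + (k * f₁ (X *ᵥ cov f₂ c) x) • vecMulVec x c := fun X => by
      refine hbij.1 ?_
      rw [hL, show Φ g = UnitaryMax.T (L (vecMulVec x c)) k hv from hg, UnitaryMax.T_mulVec, map_add, map_smul,
        hiso, tB_pure h1 h2]
    obtain ⟨G, hG⟩ := TensorForm.exists_right_mul (show 1 ≤ 2 by omega) hc0 hgk (fun u => by
      rw [hgX, pure_mulVec, h2.dot_cov, hc, zero_smul, h1.zero_left, mul_zero, zero_smul, add_zero])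
    obtain ⟨m, hm⟩ := h1.exists_partner hx0
    obtain ⟨e₀, he₀⟩ := h2.exists_partner hc0
    have hxm : x ∉ F ∙ m := fun hmem => by
      obtain ⟨r, rfl⟩ := Submodule.mem_span_singleton.1 hmem
      rw [h1.smul_left, h1.smul_right] at hx
      rw [h1.smul_right] at hm
      have hr0 : r ≠ 0 := fun e => hx0 (by rw [e, zero_smul])
      rw [(mul_eq_zero.1 hx).resolve_left hr0] at hm
      exact zero_ne_one hm
    obtain ⟨η, hη0, hη1⟩ := exists_sep hxm
    have h := congrArg (fun Z => η ᵥ* Z) ((hG (vecMulVec m e₀)).symm.trans (hgX _))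
    simp only [vecMulVec_mul, vecMul_add, vecMul_smul, vecMul_pure, pure_mulVec, h2.dot_cov, he₀, one_smul, hm,
      mul_one, (dotProduct_comm _ _).trans hη1,
      (dotProduct_comm _ _).trans (hη0 _ (Submodule.mem_span_singleton_self _)), zero_smul, zero_add] at h
    exact hc0 ((smul_eq_zero.1 h.symm).resolve_left (sub_ne_zero.2 (Ne.symm ht₀)))
  set M := H.comap Φ.toMonoidHom with hMdef
  by_cases hMk : M ≤ Cfsg.Geo.kroneckerSubgroup 2 3 F
  · refine Or.inl (le_antisymm (fun y hy => ?_) hKH)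
    obtain ⟨g, rfl⟩ := Φ.surjective y
    exact ⟨⟨g, hMk hy, rfl⟩, hHG hy⟩
  right
  have hMiso : ∀ g ∈ M, ∀ X Y, tB f₁ f₂ (op g X) (op g Y) = tB f₁ f₂ X Y := fun g hg =>
    ((hsame g).1 (hHG hg)).1
  have hKM : ∀ g ∈ Cfsg.Geo.kroneckerSubgroup 2 3 F,
      (g : Matrix (Fin 2 × Fin 3) (Fin 2 × Fin 3) F).det = 1 →
      (∀ X Y, tB f₁ f₂ (op g X) (op g Y) = tB f₁ f₂ X Y) → g ∈ M := fun g hgk hd hi =>
    hKH ⟨⟨g, hgk, rfl⟩, (hsame g).2 ⟨hi, hd⟩⟩
  have hbig : ∃ t : F, qPowHom hF t = t ∧ t ≠ 0 ∧ t ≠ 1 := by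
    have hc := UnitaryMax.card_fixedField hF (F := F)
    by_contra hbig
    push Not at hbig
    have hsub : fixedField q F ⊆ ({0, 1} : Finset F) := fun r hr => by
      simp only [fixedField, Finset.mem_filter] at hr
      by_cases h0 : r = 0
      · simp [h0]
      · simp [hbig r (by rw [hq]; exact hr.2) h0]
    have := (Finset.card_le_card hsub).trans Finset.card_le_two
    omega
  have S : Ctx (qPowHom hF) f₁ f₂ M :=
    ⟨h1, h2, hσ, le_rfl, by norm_num, hbig, hMiso, fun g hg => ((hsame g).1 (hHG hg)).2, hKM⟩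
  have hno : ¬ NoRoot (qPowHom hF) f₁ f₂ M := fun hno =>
    hMk (S.le_kron hF hq hq3 hno L hbij.1 hiso)
  unfold NoRoot HasRoot at hno
  push Not at hno
  obtain ⟨x₀, c₀, hx₀0, hc₀0, hx₀, hc₀, hrk⟩ := hno
  have hbase : L (vecMulVec x₀ c₀) ∈ root q H := by
    refine ⟨by rw [hiso, tB_pure_pure h1 h2, hc₀, zero_mul], fun k hk => ?_⟩
    obtain ⟨g, hgM, hg⟩ := hrk k (by rw [hq]; exact hk)
    rw [← hTv g x₀ c₀ k _ hg]
    exact hgM
  have hmove : ∀ x y c d, f₁ x x = 0 → f₁ y y = 0 → f₂ c c = 0 → f₂ d d = 0 → x ≠ 0 → c ≠ 0 →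
      L (vecMulVec x c) ∈ root q H → L (vecMulVec y d) ∈ root q H := by
    intro x y c d hx hy hc hd hx0 hc0 hroot
    by_cases hy0 : y = 0
    · have := root_smul hF hroot (0 : F)
      rwa [hy0, pure_zero_left, map_zero, ← zero_smul F (L (vecMulVec x c))]
    by_cases hd0 : d = 0
    · have := root_smul hF hroot (0 : F)
      rwa [hd0, pure_zero_right, map_zero, ← zero_smul F (L (vecMulVec x c))]
    have hA : ∀ {x y : Fin 2 → F}, f₁ x x = 0 → f₁ y y = 0 → f₁ x y ≠ 0 →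
        L (vecMulVec x c) ∈ root q H → L (vecMulVec y c) ∈ root q H := by
      intro x y hx hy hxy hr
      obtain ⟨z, l, s, hz, hl, hs, he⟩ := h1.exists_move_herm hσ hx hy hxy
      obtain ⟨t, ht, -, htX⟩ := S.transA z l hz hl
      have h := root_map hHG (g := Φ t) ht hr
      rw [← hL, htX, vecMul_pure, dotProduct_comm, h1.dot_cov, pure_smul_right, smul_smul,
        ← pure_smul_left, ← pure_add_left, he, pure_smul_left, map_smul] at h
      have h' := root_smul hF h s⁻¹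
      rwa [smul_smul, inv_mul_cancel₀ hs, one_smul] at h'
    have hB : ∀ {c d : Fin 3 → F}, f₂ c c = 0 → f₂ d d = 0 → f₂ c d ≠ 0 →
        L (vecMulVec y c) ∈ root q H → L (vecMulVec y d) ∈ root q H := by
      intro c d hc hd hcd hr
      obtain ⟨z, l, s, hz, hl, hs, he⟩ := h2.exists_move_herm hσ hc hd hcd
      obtain ⟨t, ht, -, htX⟩ := S.transB z l hz hl
      have h := root_map hHG (g := Φ t) ht hr
      rw [← hL, htX, pure_mulVec, h2.dot_cov, pure_smul_left, smul_smul, ← pure_smul_right, ← pure_add_right,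
        he, pure_smul_right, map_smul] at h
      have h' := root_smul hF h s⁻¹
      rwa [smul_smul, inv_mul_cancel₀ hs, one_smul] at h'
    obtain ⟨σe, -, hU⟩ := h1.exists_unitary hσ
    obtain ⟨σe', -, hU'⟩ := h2.exists_unitary hσ
    have hy' : L (vecMulVec y c) ∈ root q H := by
      obtain ⟨z, hz, hxz, hyz⟩ := FormMax.UnitarySL.exists_common hU hx0 hx hy0 hy
      exact hA hz hy (fun e => hyz (h1.eq_zero_symm e)) (hA hx hz hxz hroot)
    obtain ⟨z, hz, hcz, hdz⟩ := FormMax.UnitarySL.exists_common hU' hc0 hc hd0 hd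
    exact hB hz hd (fun e => hdz (h2.eq_zero_symm e)) (hB hc hz hcz hy')
  exact eq_suGL_of_pure_three hF h1 h2 le_rfl rfl hq3 (by norm_num) hHG L hbij.2 hiso
    fun x c hx hc => hmove x₀ x c₀ c hx₀ hx hc₀ hc hx₀0 hc₀0 hbase

/-- The stabiliser of a unitary tensor decomposition is maximal in the special unitary group. -/
theorem isMaximalIn_tensor {F : Type*} [Field F] [Fintype F] (n q : ℕ) (hF : Fintype.card F = q ^ 2) (hn : n = 6) (n₁ n₂ : ℕ) (h1 : n₁ = 2) (h12 : n₂ = 3) (hq3 : 3 ≤ q) (e : Fin n ≃ Fin n₁ × Fin n₂) (P : Matrix.GeneralLinearGroup (Fin n) F) (f₁ : (Fin n₁ → F) → (Fin n₁ → F) → F) (f₂ : (Fin n₂ → F) → (Fin n₂ → F) → F) (hf₁ : Cfsg.Geo.IsUnitaryFormPow q f₁) (hf₂ : Cfsg.Geo.IsUnitaryFormPow q f₂) (hT : Cfsg.Geo.IsTensorFormStructure (fun x : F => x ^ q) (Cfsg.hermForm n F q) f₁ f₂ e P) : Cfsg.Geo.IsMaximalIn (Cfsg.GU n F q ⊓ Cfsg.Geo.specialLinear (Fin n) F) (Cfsg.Geo.tensorProductSubgroup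 n₁ n₂ e P ⊓ (Cfsg.GU n F q ⊓ Cfsg.Geo.specialLinear (Fin n) F)) := by
  classical
  subst hn h1 h12
  have hσ : ∀ x : F, qPowHom hF x = x ^ q := qPowHom_apply hF
  have mk : ∀ {m : ℕ} {f : (Fin m → F) → (Fin m → F) → F}, Cfsg.Geo.IsUnitaryFormPow q f →
      IsSForm (qPowHom hF) 1 f := fun {m f} hf =>
    ⟨hf.add_left, hf.smul_left, fun v w => by rw [one_mul, hσ]; exact hf.herm w v,
      fun v hv => (hf.nondegenerate v hv).2, qPowHom_qPowHom hF, by rw [map_one, mul_one]⟩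
  have g₁ := mk hf₁
  have g₂ := mk hf₂
  obtain ⟨c, hc0, hc⟩ := hT
  let L : Matrix (Fin 2) (Fin 3) F →ₗ[F] (Fin 6 → F) :=
    (Matrix.mulVecLin (P : Matrix (Fin 6) (Fin 6) F)) ∘ₗ
      { toFun := fun X => fun i => X (e i).1 (e i).2
        map_add' := fun X Y => rfl
        map_smul' := fun r X => rfl }
  have hLeq : ∀ X, L X = (P : Matrix (Fin 6) (Fin 6) F) *ᵥ ((fun p => X p.1 p.2) ∘ e) := fun X => rfl
  have hB : ∀ X Y, Cfsg.hermForm 6 F q (L X) (L Y) = c * tB f₁ f₂ X Y := fun X Y => by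
    rw [hLeq, hLeq, hc, ← tB_gram g₁ g₂]
    congr 2
    funext x
    exact (hσ x).symm
  have hbij : Function.Bijective L := by
    have hinv : Function.Injective ((P : Matrix (Fin 6) (Fin 6) F) *ᵥ ·) := fun u v huv => by
      have := congrArg (fun w => ((P⁻¹ : GL (Fin 6) F) : Matrix (Fin 6) (Fin 6) F) *ᵥ w) huv
      simpa [Matrix.mulVec_mulVec, ← Units.val_mul] using this
    refine ⟨fun X Y h => ?_, fun v => ?_⟩
    · funext i j
      have h' : (fun p : Fin 2 × Fin 3 => X p.1 p.2) ∘ e = (fun p => Y p.1 p.2) ∘ e := hinv h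
      simpa using congrFun h' (e.symm (i, j))
    · refine ⟨Matrix.of fun i j => (((P⁻¹ : GL (Fin 6) F) : Matrix (Fin 6) (Fin 6) F) *ᵥ v) (e.symm (i, j)), ?_⟩
      rw [hLeq]
      simp only [Matrix.of_apply]
      have : ((fun p : Fin 2 × Fin 3 =>
          (((P⁻¹ : GL (Fin 6) F) : Matrix (Fin 6) (Fin 6) F) *ᵥ v) (e.symm (p.1, p.2))) ∘ e)
          = ((P⁻¹ : GL (Fin 6) F) : Matrix (Fin 6) (Fin 6) F) *ᵥ v := funext fun i => by simp
      rw [this, Matrix.mulVec_mulVec, ← Units.val_mul, mul_inv_cancel, Units.val_one, Matrix.one_mulVec]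
  obtain ⟨p₁, p₂, hp⟩ : ∃ X Y, tB f₁ f₂ X Y ≠ 0 := by
    have h0 : (Pi.single ⟨0, by norm_num⟩ 1 : Fin 2 → F) ≠ 0 := by simp
    have h0' : (Pi.single ⟨0, by norm_num⟩ 1 : Fin 3 → F) ≠ 0 := by simp
    obtain ⟨y, hy⟩ := g₁.nondeg _ h0
    obtain ⟨d, hd⟩ := g₂.nondeg _ h0'
    exact ⟨Matrix.vecMulVec _ _, Matrix.vecMulVec y d, by rw [tB_pure_pure g₁ g₂]; exact mul_ne_zero hd hy⟩
  have hcq : qPowHom hF c = c := by
    have h := herm_conj hF (L p₁) (L p₂)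
    rw [hB, hB, ← hσ, map_mul, tB_herm g₁ g₂ p₁ p₂, one_mul, one_mul] at h
    exact mul_right_cancel₀ (fun e0 => hp (by
      rw [← qPowHom_qPowHom hF (tB f₁ f₂ p₁ p₂), e0, map_zero])) h
  let f₁' : (Fin 2 → F) → (Fin 2 → F) → F := fun v w => c * f₁ v w
  have g₁' : IsSForm (qPowHom hF) 1 f₁' :=
    ⟨fun x y v => by simp only [f₁', g₁.add_left, mul_add],
      fun r x v => by simp only [f₁', g₁.smul_left]; ring,
      fun v w => by simp only [f₁', map_mul, hcq, g₁.symm v w, one_mul],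
      fun v hv => (g₁.nondeg v hv).imp fun w hw => mul_ne_zero hc0 hw,
      qPowHom_qPowHom hF, by rw [map_one, mul_one]⟩
  have hB' : ∀ X Y, Cfsg.hermForm 6 F q (L X) (L Y) = tB f₁' f₂ X Y := fun X Y => by
    rw [hB, tB, tB, Finset.mul_sum]
  let Φ : GL (Fin 2 × Fin 3) F ≃* GL (Fin 6) F :=
    (Cfsg.Geo.glReindex e.symm).trans (MulAut.conj P)
  have hΦ : ∀ g, (Φ g : Matrix (Fin 6) (Fin 6) F) = (P : Matrix (Fin 6) (Fin 6) F) *
      (g : Matrix (Fin 2 × Fin 3) (Fin 2 × Fin 3) F).submatrix e e *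
      ((P⁻¹ : GL (Fin 6) F) : Matrix (Fin 6) (Fin 6) F) := fun g => rfl
  have hdet : ∀ g, (Φ g : Matrix (Fin 6) (Fin 6) F).det =
      (g : Matrix (Fin 2 × Fin 3) (Fin 2 × Fin 3) F).det := fun g => by
    rw [hΦ, Matrix.det_mul, Matrix.det_mul, Matrix.det_submatrix_equiv_self, mul_right_comm,
      ← Matrix.det_mul, ← Units.val_mul, mul_inv_cancel, Units.val_one, Matrix.det_one, one_mul]
  have hL : ∀ g X, L (op g X) = (Φ g : Matrix (Fin 6) (Fin 6) F) *ᵥ L X := fun g X => by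
    rw [hLeq, hLeq, hΦ, Matrix.mulVec_mulVec, Matrix.mul_assoc, ← Units.val_mul, inv_mul_cancel,
      Units.val_one, Matrix.mul_one, ← Matrix.mulVec_mulVec, Matrix.submatrix_mulVec_equiv]
    congr 1
    funext i
    simp only [Function.comp_apply, Equiv.self_comp_symm, Function.comp_def, Equiv.apply_symm_apply]
    rfl
  have h := isMaximalIn_tensorSU_two_three hF hq3 g₁' g₂ Φ L hbij hL hdet hB'
  rw [Cfsg.Geo.tensorProductSubgroup, Subgroup.map_map]
  exact h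

end Cfsg.Agent.Lib.TensorTwoThreeU
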