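import Cfsg.Agent.Lib.TensorForm.UnitaryMain

/-!
Groups containing the Kronecker isometries of a tensor product of two hermitian forms and no root element
at an isotropic pure tensor: the central radical maps are scalar.
-/

set_option autoImplicit false
set_option linter.unusedSectionVars false

namespace Cfsg.Agent.Lib.TensorTwoThreeU

open Matrix Cfsg.Agent.Lib Cfsg.Agent.Lib.TensorMax Cfsg.Agent.Lib.TensorForm
open scoped Kronecker

variable {F : Type*} [Field F] {a b : ℕ}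

/-- The hypotheses on a group of isometries. -/
structure Ctx (σ : F →+* F) (f₁ : (Fin a → F) → (Fin a → F) → F) (f₂ : (Fin b → F) → (Fin b → F) → F)
    (M : Subgroup (GL (Fin a × Fin b) F)) : Prop where
  form₁ : IsSForm σ 1 f₁
  form₂ : IsSForm σ 1 f₂
  moved : σ ≠ RingHom.id F
  two₁ : 2 ≤ a
  two₂ : 2 ≤ b
  big : ∃ t : F, σ t = t ∧ t ≠ 0 ∧ t ≠ 1
  iso : ∀ g ∈ M, ∀ X Y, tB f₁ f₂ (op g X) (op g Y) = tB f₁ f₂ X Y
  det : ∀ g ∈ M, (g : Matrix (Fin a × Fin b) (Fin a × Fin b) F).det = 1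
  kron : ∀ g ∈ Cfsg.Geo.kroneckerSubgroup a b F,
    (g : Matrix (Fin a × Fin b) (Fin a × Fin b) F).det = 1 →
    (∀ X Y, tB f₁ f₂ (op g X) (op g Y) = tB f₁ f₂ X Y) → g ∈ M

/-- The root group at `x ⊗ c` lies in `M`. -/
def HasRoot (σ : F →+* F) (f₁ : (Fin a → F) → (Fin a → F) → F) (f₂ : (Fin b → F) → (Fin b → F) → F)
    (M : Subgroup (GL (Fin a × Fin b) F)) (x : Fin a → F) (c : Fin b → F) : Prop :=
  ∀ k : F, k + σ k = 0 → ∃ g ∈ M, ∀ X, op g X = X + (k * f₁ (X *ᵥ cov f₂ c) x) • vecMulVec x c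

/-- No root group at an isotropic pure tensor. -/
def NoRoot (σ : F →+* F) (f₁ : (Fin a → F) → (Fin a → F) → F) (f₂ : (Fin b → F) → (Fin b → F) → F)
    (M : Subgroup (GL (Fin a × Fin b) F)) : Prop :=
  ∀ x c, x ≠ 0 → c ≠ 0 → f₁ x x = 0 → f₂ c c = 0 → ¬ HasRoot σ f₁ f₂ M x c

/-- The central element at `x` on the left with coefficient `Z` lies in `M`. -/
def InX (f₁ : (Fin a → F) → (Fin a → F) → F) (M : Subgroup (GL (Fin a × Fin b) F)) (x : Fin a → F)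
    (Z : (Fin b → F) →ₗ[F] (Fin b → F)) : Prop :=
  ∃ g ∈ M, ∀ X, op g X = X + vecMulVec x (Z (cov f₁ x ᵥ* X))

/-- `X ↦ φ X`. -/
def contrX (b : ℕ) (φ : Fin a → F) : Matrix (Fin a) (Fin b) F →ₗ[F] (Fin b → F) where
  toFun X := φ ᵥ* X
  map_add' X Y := vecMul_add X Y φ
  map_smul' c X := vecMul_smul φ c X

theorem contrX_apply (φ : Fin a → F) (X : Matrix (Fin a) (Fin b) F) : contrX b φ X = φ ᵥ* X := rfl

/-- Exchange of the two factors. -/
def sw (a b : ℕ) (F : Type*) [Field F] : GL (Fin a × Fin b) F ≃* GL (Fin b × Fin a) F :=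
  Cfsg.Geo.glReindex (Equiv.prodComm (Fin a) (Fin b))

theorem sw_val (g : GL (Fin a × Fin b) F) :
    (sw a b F g : Matrix (Fin b × Fin a) (Fin b × Fin a) F)
      = (g : Matrix (Fin a × Fin b) (Fin a × Fin b) F).submatrix Prod.swap Prod.swap := rfl

theorem op_sw (g : GL (Fin a × Fin b) F) (Y : Matrix (Fin b) (Fin a) F) : op (sw a b F g) Y = (op g Yᵀ)ᵀ := by
  ext j i
  show ((sw a b F g : Matrix (Fin b × Fin a) (Fin b × Fin a) F) *ᵥ fun p => Y p.1 p.2) (j, i)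
    = ((g : Matrix (Fin a × Fin b) (Fin a × Fin b) F) *ᵥ fun p => Y p.2 p.1) (i, j)
  rw [sw_val]
  simp only [mulVec, dotProduct, submatrix_apply, Prod.swap_prod_mk]
  exact Fintype.sum_equiv (Equiv.prodComm _ _) _ _ fun p => rfl

theorem det_sw (g : GL (Fin a × Fin b) F) :
    (sw a b F g : Matrix (Fin b × Fin a) (Fin b × Fin a) F).det
      = (g : Matrix (Fin a × Fin b) (Fin a × Fin b) F).det :=
  Matrix.det_submatrix_equiv_self (Equiv.prodComm (Fin b) (Fin a)) _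

theorem sw_sw (g : GL (Fin a × Fin b) F) : sw b a F (sw a b F g) = g := by
  refine ext_op fun X => ?_
  rw [op_sw, op_sw, transpose_transpose, transpose_transpose]

theorem sw_kron {g : GL (Fin a × Fin b) F} (hg : g ∈ Cfsg.Geo.kroneckerSubgroup a b F) :
    sw a b F g ∈ Cfsg.Geo.kroneckerSubgroup b a F := by
  obtain ⟨A, C, hAC⟩ := hg
  refine ⟨C, A, ?_⟩
  ext p r
  rw [sw_val, submatrix_apply, hAC]
  exact mul_comm _ _

theorem contr_comm {σ : F →+* F} {f₁ : (Fin a → F) → (Fin a → F) → F}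
    {f₂ : (Fin b → F) → (Fin b → F) → F} (h1 : IsSForm σ 1 f₁) (h2 : IsSForm σ 1 f₂)
    (X : Matrix (Fin a) (Fin b) F) (x : Fin a → F) (c : Fin b → F) :
    f₂ (cov f₁ x ᵥ* X) c = f₁ (X *ᵥ cov f₂ c) x := by
  rw [← h2.dot_cov, ← h1.dot_cov, ← dotProduct_mulVec, dotProduct_comm]

theorem tB_transpose {σ : F →+* F} {f₁ : (Fin a → F) → (Fin a → F) → F}
    {f₂ : (Fin b → F) → (Fin b → F) → F} (h1 : IsSForm σ 1 f₁) (h2 : IsSForm σ 1 f₂)
    (X Y : Matrix (Fin a) (Fin b) F) : tB f₂ f₁ Xᵀ Yᵀ = tB f₁ f₂ X Y := by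
  rw [eq_sum_rows X, eq_sum_rows Y, transpose_sum, transpose_sum, tB_sum_left h2 h1, tB_sum_left h1 h2]
  simp only [tB_sum_right h1 h2, tB_sum_right h2 h1, transpose_vecMulVec, tB_pure_pure h1 h2,
    tB_pure_pure h2 h1, mul_comm]

namespace Ctx

variable {σ : F →+* F} {f₁ : (Fin a → F) → (Fin a → F) → F}
  {f₂ : (Fin b → F) → (Fin b → F) → F} {M : Subgroup (GL (Fin a × Fin b) F)}
  (C : Ctx σ f₁ f₂ M)
include C

theorem swap : Ctx σ f₂ f₁ (M.map (sw a b F).toMonoidHom) := by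
  refine ⟨C.form₂, C.form₁, C.moved, C.two₂, C.two₁, C.big, ?_, ?_, fun g hgk hgd hgi => ?_⟩
  · rintro _ ⟨g, hg, rfl⟩ X Y
    rw [MulEquiv.coe_toMonoidHom, op_sw, op_sw, tB_transpose C.form₁ C.form₂, C.iso g hg]
    conv_rhs => rw [← transpose_transpose X, ← transpose_transpose Y, tB_transpose C.form₁ C.form₂]
  · rintro _ ⟨g, hg, rfl⟩
    rw [MulEquiv.coe_toMonoidHom, det_sw, C.det g hg]
  · refine ⟨sw b a F g, C.kron _ (sw_kron hgk) (by rw [det_sw, hgd]) (fun X Y => ?_), sw_sw g⟩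
    rw [op_sw, op_sw, tB_transpose C.form₂ C.form₁, hgi]
    exact tB_transpose C.form₁ C.form₂ X Y

theorem kron_of {A : Matrix (Fin a) (Fin a) F} {D : Matrix (Fin b) (Fin b) F} (hA : A.det = 1) (hD : D.det = 1)
    (hi : ∀ x y e d, f₂ (D *ᵥ e) (D *ᵥ d) * f₁ (A *ᵥ x) (A *ᵥ y) = f₂ e d * f₁ x y) :
    ∃ g ∈ M, g ∈ Cfsg.Geo.kroneckerSubgroup a b F ∧ ∀ x e, op g (vecMulVec x e) = vecMulVec (A *ᵥ x) (D *ᵥ e) := by
  obtain ⟨g, hgk, hgd, hg⟩ := exists_kron_of A D (by rw [hA]; exact one_ne_zero) (by rw [hD]; exact one_ne_zero)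
  refine ⟨g, C.kron g hgk (by rw [hgd, hA, hD, one_pow, one_pow, one_mul])
    (tB_iso_of_pure C.form₁ C.form₂ fun x y e d => ?_), hgk, hg⟩
  rw [hg, hg, tB_pure_pure C.form₁ C.form₂, hi]

theorem transB (c : Fin b → F) (l : F) (hc : f₂ c c = 0) (hl : l + σ l = 0) :
    ∃ g ∈ M, g ∈ Cfsg.Geo.kroneckerSubgroup a b F ∧
      ∀ X, op g X = X + l • vecMulVec (X *ᵥ cov f₂ c) c := by
  have h2 := C.form₂
  have hd : (1 + vecMulVec (l • c) (cov f₂ c) : Matrix (Fin b) (Fin b) F).det = 1 := by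
    rw [vecMulVec_eq Unit, det_one_add_replicateCol_mul_replicateRow, dotProduct_smul, dotProduct_comm,
      h2.dot_cov, hc, smul_zero, add_zero]
  have hDe : ∀ e, (1 + vecMulVec (l • c) (cov f₂ c) : Matrix (Fin b) (Fin b) F) *ᵥ e = e + (l * f₂ e c) • c :=
    fun e => by
      rw [add_mulVec, one_mulVec, vecMulVec_mulVec, op_smul_eq_smul, dotProduct_comm,
        h2.dot_cov, smul_smul, mul_comm]
  obtain ⟨g, hgM, hgk, hg⟩ := C.kron_of (A := 1) det_one hd fun x y e d => by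
    rw [one_mulVec, one_mulVec, hDe, hDe]
    congr 1
    simp only [h2.add_left, h2.add_right, h2.smul_left, h2.smul_right, hc, map_mul]
    rw [show σ (f₂ d c) = f₂ c d by rw [h2.symm d c, one_mul]]
    linear_combination (f₂ e c * f₂ c d) * hl
  refine ⟨g, hgM, hgk, fun X => ?_⟩
  have hm : X *ᵥ cov f₂ c = ∑ i, (vecMulVec (Pi.single i 1) (X i) : Matrix (Fin a) (Fin b) F) *ᵥ cov f₂ c := by
    conv_lhs => rw [eq_sum_rows X, sum_mulVec]
  conv_lhs => rw [eq_sum_rows X, map_sum]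
  rw [hm, ← pl_apply (a := a) c, map_sum, Finset.smul_sum]
  conv_rhs => arg 1; rw [eq_sum_rows X]
  rw [← Finset.sum_add_distrib]
  refine Finset.sum_congr rfl fun i _ => ?_
  rw [hg, one_mulVec, hDe, pl_apply, pure_add_right, pure_smul_right, pure_mulVec, h2.dot_cov, pure_smul_left,
    smul_smul]

theorem transA (x : Fin a → F) (l : F) (hx : f₁ x x = 0) (hl : l + σ l = 0) :
    ∃ g ∈ M, g ∈ Cfsg.Geo.kroneckerSubgroup a b F ∧
      ∀ X, op g X = X + l • vecMulVec x (cov f₁ x ᵥ* X) := by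
  obtain ⟨g', hg', hk, hX⟩ := C.swap.transB x l hx hl
  obtain ⟨g, hg, rfl⟩ := hg'
  refine ⟨g, hg, sw_sw g ▸ sw_kron hk, fun X => ?_⟩
  have h := hX Xᵀ
  rw [MulEquiv.coe_toMonoidHom, op_sw, transpose_transpose, mulVec_transpose] at h
  rw [← transpose_transpose (op g X), h, transpose_add, transpose_smul, transpose_vecMulVec, transpose_transpose]

theorem inZ_zero (c : Fin b → F) : InZ (a := a) f₂ M c 0 :=
  ⟨1, M.one_mem, fun X => by rw [op_one, LinearMap.zero_apply, pure_zero_left, add_zero]⟩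

theorem inZ_add {c : Fin b → F} (hc : f₂ c c = 0) {Z Z' : (Fin a → F) →ₗ[F] (Fin a → F)}
    (h : InZ f₂ M c Z) (h' : InZ f₂ M c Z') : InZ f₂ M c (Z + Z') := by
  obtain ⟨g, hg, hX⟩ := h
  obtain ⟨g', hg', hX'⟩ := h'
  refine ⟨g * g', M.mul_mem hg hg', fun X => ?_⟩
  rw [op_mul, hX', hX, add_mulVec, pure_mulVec, C.form₂.dot_cov, hc, zero_smul, add_zero,
    LinearMap.add_apply, pure_add_left]
  abel

theorem inZ_neg {c : Fin b → F} (hc : f₂ c c = 0) {Z : (Fin a → F) →ₗ[F] (Fin a → F)}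
    (h : InZ f₂ M c Z) : InZ f₂ M c (-Z) := by
  obtain ⟨g, hg, hX⟩ := h
  refine ⟨g⁻¹, M.inv_mem hg, fun X => ?_⟩
  apply op_injective g
  rw [op_op_inv, hX, add_mulVec, pure_mulVec, C.form₂.dot_cov, hc, zero_smul, add_zero,
    LinearMap.neg_apply, pure_neg_left]
  abel

theorem inZ_sub {c : Fin b → F} (hc : f₂ c c = 0) {Z Z' : (Fin a → F) →ₗ[F] (Fin a → F)}
    (h : InZ f₂ M c Z) (h' : InZ f₂ M c Z') : InZ f₂ M c (Z - Z') :=
  sub_eq_add_neg Z Z' ▸ C.inZ_add hc h (C.inZ_neg hc h')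

theorem inZ_conj {c : Fin b → F} {Z T T' : (Fin a → F) →ₗ[F] (Fin a → F)} {t : GL (Fin a × Fin b) F}
    (ht : t ∈ M) (htX : ∀ x e, op t (vecMulVec x e) = vecMulVec (T x) e) (hTT : ∀ x, T' (T x) = x)
    (h : InZ f₂ M c Z) : InZ f₂ M c (T ∘ₗ Z ∘ₗ T') := by
  obtain ⟨g, hg, hX⟩ := h
  have hφ : ∀ X, op t X *ᵥ cov f₂ c = T (X *ᵥ cov f₂ c) := fun X => by
    conv_lhs => rw [eq_sum_rows X, map_sum, sum_mulVec]
    conv_rhs => rw [eq_sum_rows X, sum_mulVec, map_sum]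
    exact Finset.sum_congr rfl fun i _ => by rw [htX, pure_mulVec, pure_mulVec, map_smul]
  refine ⟨t * g * t⁻¹, M.mul_mem (M.mul_mem ht hg) (M.inv_mem ht), fun Y => ?_⟩
  obtain ⟨X, rfl⟩ : ∃ X, op t X = Y := ⟨op t⁻¹ Y, op_op_inv _ _⟩
  rw [op_mul, op_inv_op, op_mul, hX, map_add, htX, hφ]
  simp only [LinearMap.comp_apply, hTT]

theorem inZ_skew {c : Fin b → F} (hc0 : c ≠ 0) (hc : f₂ c c = 0) {Z : (Fin a → F) →ₗ[F] (Fin a → F)}
    (hZ : InZ f₂ M c Z) (m m' : Fin a → F) : f₁ m (Z m') + f₁ (Z m) m' = 0 := by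
  obtain ⟨g, hg, hX⟩ := hZ
  have h1 := C.form₁
  have h2 := C.form₂
  obtain ⟨e₀, he₀⟩ := h2.exists_partner hc0
  have e : ∀ u, op g (vecMulVec u e₀) = vecMulVec u e₀ + vecMulVec (Z u) c := fun u => by
    rw [hX, pure_mulVec, h2.dot_cov, he₀, one_smul]
  have h := C.iso g hg (vecMulVec m e₀) (vecMulVec m' e₀)
  rw [e, e, tB_add_left h1 h2, tB_add_right h1 h2, tB_add_right h1 h2, tB_pure_pure h1 h2,
    tB_pure_pure h1 h2, tB_pure_pure h1 h2, tB_pure_pure h1 h2, hc, he₀, h2.symm e₀ c, he₀, map_one] at h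
  linear_combination h

theorem inZ_trans {c : Fin b → F} (hc : f₂ c c = 0) {Z : (Fin a → F) →ₗ[F] (Fin a → F)}
    (hZ : InZ f₂ M c Z) {x : Fin a → F} {l : F} (hx : f₁ x x = 0) (hl : l + σ l = 0)
    {E : (Fin a → F) →ₗ[F] (Fin a → F)} (hE : ∀ m, E m = (l * f₁ m x) • x) :
    InZ f₂ M c (E ∘ₗ Z - Z ∘ₗ E - E ∘ₗ Z ∘ₗ E) := by
  obtain ⟨t, ht, -, htX⟩ := C.transA x l hx hl
  have h1 := C.form₁
  have hEE : ∀ m, E (E m) = 0 := fun m => by
    rw [hE (E m), hE m, h1.smul_left, hx, mul_zero, mul_zero, zero_smul]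
  have h := C.inZ_conj (T := LinearMap.id + E) (T' := LinearMap.id - E) ht (fun u e => by
    rw [htX, vecMul_pure, dotProduct_comm, h1.dot_cov, LinearMap.add_apply, LinearMap.id_apply, hE,
      pure_add_left, pure_smul_right, pure_smul_left, smul_smul])
    (fun u => by simp only [LinearMap.sub_apply, LinearMap.add_apply, LinearMap.id_apply, map_add, hEE]
                 abel) hZ
  have h' := C.inZ_sub hc h hZ
  have e : (LinearMap.id + E) ∘ₗ Z ∘ₗ (LinearMap.id - E) - Z = E ∘ₗ Z - Z ∘ₗ E - E ∘ₗ Z ∘ₗ E :=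
    LinearMap.ext fun m => by
      simp only [LinearMap.sub_apply, LinearMap.add_apply, LinearMap.comp_apply, LinearMap.id_apply,
        map_sub]
      abel
  rwa [e] at h'

variable [Finite F]

theorem skew : ∃ l : F, l ≠ 0 ∧ l + σ l = 0 := by
  obtain ⟨t, ht⟩ := herm_moved C.form₁ C.moved
  exact ⟨t - σ t, sub_ne_zero.2 (Ne.symm ht), by rw [map_sub, C.form₁.invol]; ring⟩

theorem inZ_sq {c : Fin b → F} (hc0 : c ≠ 0) (hc : f₂ c c = 0) {lam : F} (hlam : σ lam = lam)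
    {Z : (Fin a → F) →ₗ[F] (Fin a → F)} (hZ : InZ f₂ M c Z) : InZ f₂ M c ((lam * lam) • Z) := by
  have h1 := C.form₁
  have h2 := C.form₂
  by_cases h0 : lam = 0
  · rw [h0, mul_zero, zero_smul]; exact C.inZ_zero c
  obtain ⟨l₀, hl₀0, hl₀⟩ := C.skew
  obtain ⟨e, he, hce⟩ := herm_partner h2 C.moved hc0 hc (δ := 1) one_ne_zero
  have hec : f₂ e c = 1 := by rw [herm_eq h2 c e, hce, map_one]
  have hw : ∀ l : F, l ≠ 0 → l + σ l = 0 → ∃ w ∈ M, (∀ x, op w (vecMulVec x c) = vecMulVec x (-l⁻¹ • e)) ∧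
      ∀ x, op w (vecMulVec x e) = vecMulVec x (l • c) := by
    intro l hl0 hl
    obtain ⟨t₁, ht₁, -, hX₁⟩ := C.transB c l hc hl
    obtain ⟨t₂, ht₂, -, hX₂⟩ := C.transB e (-l⁻¹) he (by
      rw [map_neg, map_inv₀, show σ l = -l by linear_combination hl, inv_neg]; ring)
    refine ⟨t₁ * t₂ * t₁, M.mul_mem (M.mul_mem ht₁ ht₂) ht₁, fun x => ?_, fun x => ?_⟩
    all_goals
      simp only [op_mul, hX₁, hX₂, map_add, map_smul, add_mulVec, smul_mulVec, pure_mulVec, h2.dot_cov,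
        hc, he, hec, hce, pure_smul_left, pure_smul_right, pure_add_left, pure_zero_left, zero_smul,
        smul_zero, add_zero, zero_add, one_smul]
      match_scalars <;> field_simp <;> ring
  have hl' : (-lam * l₀) + σ (-lam * l₀) = 0 := by
    rw [map_mul, map_neg, hlam]; linear_combination (-lam) * hl₀
  obtain ⟨w, hwM, -, hwe⟩ := hw _ (mul_ne_zero (neg_ne_zero.2 h0) hl₀0) hl'
  obtain ⟨w', hw'M, hw'c, -⟩ := hw _ hl₀0 hl₀
  obtain ⟨g, hg, hgX⟩ := hZ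
  have hk : ∀ x, op (w * w') (vecMulVec x c) = vecMulVec x (lam • c) := fun x => by
    rw [op_mul, hw'c, pure_smul_right, map_smul, hwe, pure_smul_right, pure_smul_right, smul_smul]
    congr 1
    field_simp
  refine ⟨w * w' * g * (w * w')⁻¹,
    M.mul_mem (M.mul_mem (M.mul_mem hwM hw'M) hg) (M.inv_mem (M.mul_mem hwM hw'M)), fun Y => ?_⟩
  obtain ⟨X, rfl⟩ : ∃ X, op (w * w') X = Y := ⟨op (w * w')⁻¹ Y, op_op_inv _ _⟩
  have hφ : lam • (op (w * w') X *ᵥ cov f₂ c) = X *ᵥ cov f₂ c := by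
    by_contra hne
    obtain ⟨u, hu⟩ := h1.nondeg _ (sub_ne_zero.2 hne)
    refine hu ?_
    have h' := C.iso _ (M.mul_mem hwM hw'M) X (vecMulVec u c)
    rw [hk, tB_pure h1 h2, tB_pure h1 h2, h2.cov_smul, hlam, mulVec_smul] at h'
    rw [h1.sub_left, h', sub_self]
  rw [op_mul, op_inv_op, op_mul, hgX, map_add, hk, ← hφ, map_smul, pure_smul_left, pure_smul_right,
    smul_smul, LinearMap.smul_apply, pure_smul_left]

theorem zset {c : Fin b → F} (hc0 : c ≠ 0) (hc : f₂ c c = 0) : ZSet σ f₁ (InZ f₂ M c) := by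
  classical
  have h1 := C.form₁
  have h2 := C.form₂
  refine ⟨h1, fun Z Z' h h' => C.inZ_add hc h h', fun Z h => C.inZ_skew hc0 hc h, fun Z h r hr => ?_,
    fun Z h x l hx hl E hE => C.inZ_trans hc h hx hl hE,
    fun Z h T T' hT hdet hTT => ?_, h1.iso_span_top C.moved C.two₁,
    fun u w hu hw => h1.iso_add_herm C.moved u w hu hw, herm_trace h1 C.moved, C.skew⟩
  · by_cases h2' : (2 : F) = 0
    · haveI : CharP F 2 := CharTwo.of_one_ne_zero_of_two_eq_zero one_ne_zero h2'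
      obtain ⟨s, hs⟩ : ∃ s : F, s * s = r := by
        obtain ⟨s, hs⟩ := surjective_frobenius F 2 r
        exact ⟨s, by rw [frobenius_def, pow_two] at hs; exact hs⟩
      have hσs : σ s = s := by
        have e : (σ s - s) * (σ s - s) = 0 := by
          have h' := congrArg σ hs
          rw [map_mul, hr] at h'
          linear_combination h' - hs + (s * s - σ s * s) * h2'
        exact sub_eq_zero.1 (mul_self_eq_zero.1 e)
      exact hs ▸ C.inZ_sq hc0 hc hσs h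
    · have hhalf : σ ((2 : F)⁻¹) = (2 : F)⁻¹ := by rw [map_inv₀, map_ofNat]
      have h' := C.inZ_sub hc
        (C.inZ_sq hc0 hc (lam := (r + 1) * 2⁻¹) (by rw [map_mul, map_add, map_one, hr, hhalf]) h)
        (C.inZ_sq hc0 hc (lam := (r - 1) * 2⁻¹) (by rw [map_mul, map_sub, map_one, hr, hhalf]) h)
      have e : r • Z = ((r + 1) * 2⁻¹ * ((r + 1) * 2⁻¹)) • Z - ((r - 1) * 2⁻¹ * ((r - 1) * 2⁻¹)) • Z :=
        LinearMap.ext fun v => by
          rw [LinearMap.sub_apply, LinearMap.smul_apply, LinearMap.smul_apply, LinearMap.smul_apply,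
            ← sub_smul]
          congr 1
          field_simp
          ring
      rwa [e]
  · have hd : (LinearMap.toMatrix' T).det = 1 := by rw [LinearMap.det_toMatrix']; exact hdet
    obtain ⟨g, hgM, -, hg⟩ := C.kron_of (A := LinearMap.toMatrix' T) (D := 1) hd det_one fun x y e d => by
      rw [LinearMap.toMatrix'_mulVec, LinearMap.toMatrix'_mulVec, one_mulVec, one_mulVec, hT]
    exact C.inZ_conj hgM (fun x e => by rw [hg, LinearMap.toMatrix'_mulVec, one_mulVec]) hTT h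

/-- A non-scalar central coefficient gives a root group. -/
theorem inZ_scalar (hno : NoRoot σ f₁ f₂ M) {c : Fin b → F} (hc0 : c ≠ 0) (hc : f₂ c c = 0)
    {Z : (Fin a → F) →ₗ[F] (Fin a → F)} (hZ : InZ f₂ M c Z) : ∃ s : F, ∀ m, Z m = s • m := by
  by_contra hns
  obtain ⟨t, ht, ht0, ht1⟩ := C.big
  have ZS := C.zset hc0 hc
  obtain ⟨Z', x, hZ', hx, hval⟩ := ZS.exists_value hZ hns
  have hx0 : x ≠ 0 := fun e => hval (by rw [e, C.form₁.zero_right])
  refine hno x c hx0 hc0 hx hc fun k hk => ?_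
  obtain ⟨g, hg, hgX⟩ := ZS.rank_one_big ht ht0 ht1 hZ' hx hval k hk
  exact ⟨g, hg, fun X => by
    rw [hgX, LinearMap.smul_apply, rk1_apply, pure_smul_left, pure_smul_left, smul_smul]⟩

theorem noRoot_swap (hno : NoRoot σ f₁ f₂ M) : NoRoot σ f₂ f₁ (M.map (sw a b F).toMonoidHom) := by
  intro c x hc0 hx0 hc hx hr
  refine hno x c hx0 hc0 hx hc fun k hk => ?_
  obtain ⟨_, ⟨g, hg, rfl⟩, hgX⟩ := hr k hk
  refine ⟨g, hg, fun X => ?_⟩
  have h := hgX Xᵀ
  rw [MulEquiv.coe_toMonoidHom, op_sw, transpose_transpose, mulVec_transpose, contr_comm C.form₁ C.form₂] at h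
  rw [← transpose_transpose (op g X), h, transpose_add, transpose_smul, transpose_vecMulVec, transpose_transpose]

theorem inX_scalar (hno : NoRoot σ f₁ f₂ M) {x : Fin a → F} (hx0 : x ≠ 0) (hx : f₁ x x = 0)
    {Z : (Fin b → F) →ₗ[F] (Fin b → F)} (hZ : InX f₁ M x Z) : ∃ s : F, ∀ w, Z w = s • w := by
  obtain ⟨g, hg, hgX⟩ := hZ
  refine C.swap.inZ_scalar (C.noRoot_swap hno) hx0 hx ⟨_, ⟨g, hg, rfl⟩, fun Y => ?_⟩
  rw [MulEquiv.coe_toMonoidHom, op_sw, hgX, transpose_add, transpose_vecMulVec, transpose_transpose,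
    vecMul_transpose]

/-- An element preserving `x ⊗ U` acts on it by a similitude. -/
theorem similitude (hno : NoRoot σ f₁ f₂ M) {x : Fin a → F} (hx0 : x ≠ 0) (hx : f₁ x x = 0)
    {g : GL (Fin a × Fin b) F} (hg : g ∈ M) {A : (Fin b → F) →ₗ[F] (Fin b → F)}
    (hA : ∀ u, op g (vecMulVec x u) = vecMulVec x (A u)) :
    ∃ μ : F, μ ≠ 0 ∧ ∀ u w, f₂ (A u) (A w) = μ * σ μ * f₂ u w := by
  have h1 := C.form₁
  have h2 := C.form₂
  obtain ⟨m, hm⟩ := h1.exists_partner hx0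
  obtain ⟨l, hl0, hl⟩ := C.skew
  obtain ⟨t, ht, -, htX⟩ := C.transA x l hx hl
  have hB : ∀ Y u, f₂ (cov f₁ x ᵥ* op g⁻¹ Y) u = f₂ (cov f₁ x ᵥ* Y) (A u) := fun Y u => by
    rw [contr_comm h1 h2, contr_comm h1 h2, ← tB_pure h1 h2, ← tB_pure h1 h2, ← C.iso g hg, op_op_inv, hA]
  let Φ : (Fin b → F) →ₗ[F] (Fin b → F) := contrX b (cov f₁ x) ∘ₗ op g⁻¹ ∘ₗ plL b m
  have hxm : cov f₁ x ⬝ᵥ m = 1 := by rw [dotProduct_comm, h1.dot_cov, hm]
  have hΦ : ∀ w u, f₂ (Φ w) u = f₂ w (A u) := fun w u => by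
    simp only [Φ, LinearMap.comp_apply, contrX_apply, plL_apply]
    rw [hB, vecMul_pure, hxm, one_smul]
  have hAi : Function.Injective A := fun u w huw => by
    have h := op_injective g ((hA u).trans ((congrArg (vecMulVec x) huw).trans (hA w).symm))
    have h' := congrArg (fun X => cov f₁ m ᵥ* X) h
    simp only [vecMul_pure, dotProduct_comm (cov f₁ m) x, h1.dot_cov] at h'
    rw [h1.symm m x, hm, map_one, mul_one, one_smul, one_smul] at h'
    exact h'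
  have key : ∀ Y, cov f₁ x ᵥ* op g⁻¹ Y = Φ (cov f₁ x ᵥ* Y) := fun Y => by
    by_contra hne
    obtain ⟨u, hu⟩ := h2.nondeg _ (sub_ne_zero.2 hne)
    exact hu (by rw [h2.sub_left, hB, hΦ, sub_self])
  obtain ⟨s, hs⟩ := C.inX_scalar hno hx0 hx (Z := l • (A ∘ₗ Φ))
    ⟨g * t * g⁻¹, M.mul_mem (M.mul_mem hg ht) (M.inv_mem hg), fun Y => by
      rw [op_mul, op_mul, htX, map_add, map_smul, op_op_inv, hA, key, LinearMap.smul_apply, pure_smul_right]
      rfl⟩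
  have hAΦ : ∀ w, A (Φ w) = (s / l) • w := fun w => by
    have h := hs w
    rw [LinearMap.smul_apply, LinearMap.comp_apply] at h
    rw [div_eq_inv_mul, ← smul_smul, ← h, smul_smul, inv_mul_cancel₀ hl0, one_smul]
  set r := s / l with hr
  have hΦA : ∀ u, Φ (A u) = r • u := fun u => hAi (by rw [hAΦ, map_smul])
  have hf : ∀ u w, f₂ (A u) (A w) = r * f₂ u w := fun u w => by rw [← hΦ, hΦA, h2.smul_left]
  obtain ⟨u₀, w₀, huw⟩ : ∃ u w, f₂ u w ≠ 0 := by
    have hu : (Pi.single ⟨0, by have := C.two₂; omega⟩ 1 : Fin b → F) ≠ 0 := by simp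
    obtain ⟨w, hw⟩ := h2.nondeg _ hu
    exact ⟨_, w, hw⟩
  have hr0 : r ≠ 0 := fun e => by
    have hu : A u₀ ≠ 0 := fun e0 => by
      have := hAi (e0.trans (map_zero A).symm)
      exact huw (by rw [this, h2.zero_left])
    have hsur : Function.Surjective A := LinearMap.injective_iff_surjective.1 hAi
    obtain ⟨v, hv⟩ := h2.nondeg _ hu
    obtain ⟨w, rfl⟩ := hsur v
    exact hv (by rw [hf, e, zero_mul])
  have hσr : σ r = r := by
    have h := hf w₀ u₀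
    rw [herm_eq h2 (A u₀) (A w₀), hf, map_mul, herm_eq h2 u₀ w₀] at h
    exact mul_right_cancel₀ (fun e => huw (by rw [← h2.invol (f₂ u₀ w₀), e, map_zero])) h
  obtain ⟨μ, hμ⟩ := herm_norm h2 C.moved hσr
  exact ⟨μ, fun e => hr0 (by rw [← hμ, e, zero_mul]), fun u w => by rw [hf, hμ]⟩

end Ctx

end Cfsg.Agent.Lib.TensorTwoThreeU
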