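import Cfsg.Agent.Lib.TensorTwoThreeU.Radical

/-!
Elements of such a group stabilising a pure isotropic space, or sending a point of it to an isotropic pure
tensor, are Kronecker products.
-/

set_option autoImplicit false
set_option linter.unusedSectionVars false

namespace Cfsg.Agent.Lib.TensorTwoThreeU

open Matrix Cfsg.Agent.Lib Cfsg.Agent.Lib.TensorMax Cfsg.Agent.Lib.TensorForm
open scoped Kronecker

variable {F : Type*} [Field F] {a b : ℕ}

theorem op_ext_pure {g h : GL (Fin a × Fin b) F}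
    (e : ∀ x u, op g (vecMulVec x u) = op h (vecMulVec x u)) : g = h :=
  ext_op fun X => by
    rw [eq_sum_rows X, map_sum, map_sum]
    exact Finset.sum_congr rfl fun i _ => e _ _

/-- `g - 1` on matrices. -/
def dop (g : GL (Fin a × Fin b) F) : Matrix (Fin a) (Fin b) F →ₗ[F] Matrix (Fin a) (Fin b) F :=
  op g - LinearMap.id

theorem dop_apply (g : GL (Fin a × Fin b) F) (X : Matrix (Fin a) (Fin b) F) : dop g X = op g X - X := rfl

/-- A unipotent element has determinant one. -/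
theorem det_one_of_unipotent [Finite F] {g : GL (Fin a × Fin b) F}
    (h : ∀ X, dop g (dop g (dop g X)) = 0) :
    (g : Matrix (Fin a × Fin b) (Fin a × Fin b) F).det = 1 := by
  obtain ⟨p, hp⟩ := CharP.exists F
  haveI : Fact p.Prime := ⟨(CharP.char_is_prime_or_zero F p).resolve_right (fun e => by
    subst e
    haveI := CharP.charP_to_charZero F
    exact not_finite F)⟩
  rcases isEmpty_or_nonempty (Fin a × Fin b) with he | hne
  · exact Matrix.det_isEmpty
  set G := (g : Matrix (Fin a × Fin b) (Fin a × Fin b) F) with hG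
  have h3 : (G - 1) ^ 3 = 0 := by
    refine Matrix.ext_iff_mulVec.2 fun v => funext fun pr => ?_
    have e := congrFun (congrFun (h (Matrix.of fun i j => v (i, j))) pr.1) pr.2
    have key : ∀ w : Fin a × Fin b → F, dop g (Matrix.of fun i j => w (i, j))
        = Matrix.of fun i j => ((G - 1) *ᵥ w) (i, j) := fun w => by
      rw [dop_apply, sub_mulVec, one_mulVec]
      rfl
    rw [key, key, key, mulVec_mulVec, mulVec_mulVec] at e
    rw [pow_three, zero_mulVec]
    simpa [mul_assoc] using e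
  have hpow : G ^ (p ^ 2) = 1 := by
    have h4 : (G - 1) ^ (p ^ 2) = 0 :=
      pow_eq_zero_of_le (le_trans (by norm_num) (Nat.pow_le_pow_left (Fact.out (p := p.Prime)).two_le 2)) h3
    rw [sub_pow_char_pow_of_commute (p := p) 2 (Commute.one_right G), one_pow, sub_eq_zero] at h4
    exact h4
  have := congrArg Matrix.det hpow
  rw [det_pow, det_one] at this
  haveI hE : ExpChar F p := ExpChar.prime Fact.out
  simpa using (ExpChar.pow_prime_pow_mul_eq_one_iff p 2 1 G.det).1 (by rw [mul_one]; exact this)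

theorem det_ne_of_iso {m : ℕ} {σ : F →+* F} {f : (Fin m → F) → (Fin m → F) → F} (hf : IsSForm σ 1 f)
    {D : Matrix (Fin m) (Fin m) F} (h : ∀ v w, f (D *ᵥ v) (D *ᵥ w) = f v w) : D.det ≠ 0 := by
  intro e
  obtain ⟨v, hv0, hv⟩ := Matrix.exists_mulVec_eq_zero_iff.2 e
  obtain ⟨w, hw⟩ := hf.nondeg v hv0
  exact hw (by rw [← h, hv, hf.zero_left])

theorem decomp_two {σ : F →+* F} {f : (Fin 2 → F) → (Fin 2 → F) → F} (hf : IsSForm σ 1 f)
    {x m : Fin 2 → F} (hx : f x x = 0) (hm : f m m = 0) (hxm : f x m = 1) (v : Fin 2 → F) :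
    v = f v m • x + f v x • m := by
  have hmx : f m x = 1 := by rw [hf.symm x m, hxm, map_one, mul_one]
  let T : (Fin 2 → F) →ₗ[F] (Fin 2 → F) :=
    { toFun := fun v => ![f v m, f v x]
      map_add' := fun p r => funext fun i => by fin_cases i <;> simp [hf.add_left]
      map_smul' := fun s p => funext fun i => by fin_cases i <;> simp [hf.smul_left] }
  have hsur : Function.Surjective T := fun y => ⟨y 0 • x + y 1 • m, funext fun i => by
    fin_cases i <;> simp [T, hf.add_left, hf.smul_left, hx, hm, hxm, hmx]⟩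
  refine (LinearMap.injective_iff_surjective.2 hsur) (funext fun i => ?_)
  fin_cases i <;> simp [T, hf.add_left, hf.smul_left, hx, hm, hxm, hmx]

theorem decomp_two_mat {σ : F →+* F} {f : (Fin 2 → F) → (Fin 2 → F) → F} (hf : IsSForm σ 1 f)
    {x m : Fin 2 → F} (hx : f x x = 0) (hm : f m m = 0) (hxm : f x m = 1) (Y : Matrix (Fin 2) (Fin b) F) :
    Y = vecMulVec x (cov f m ᵥ* Y) + vecMulVec m (cov f x ᵥ* Y) := by
  ext i j
  have h := congrFun (decomp_two hf hx hm hxm fun k => Y k j) i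
  rw [← hf.dot_cov, ← hf.dot_cov, dotProduct_comm _ (cov f m), dotProduct_comm _ (cov f x)] at h
  simpa [vecMulVec_apply, vecMul, mul_comm] using h

/-- A frame of a ternary form at an isotropic vector. -/
structure Frame (f : (Fin 3 → F) → (Fin 3 → F) → F) (c z e : Fin 3 → F) : Prop where
  cc : f c c = 0
  ee : f e e = 0
  ce : f c e = 1
  ec : f e c = 1
  zz : f z z = 1
  zc : f z c = 0
  cz : f c z = 0
  ze : f z e = 0
  ez : f e z = 0

theorem exists_frame [Finite F] {σ : F →+* F} {f : (Fin 3 → F) → (Fin 3 → F) → F} (hf : IsSForm σ 1 f)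
    (hσ : σ ≠ RingHom.id F) {c : Fin 3 → F} (hc0 : c ≠ 0) (hc : f c c = 0) : ∃ z e, Frame f c z e := by
  obtain ⟨e, he, hce⟩ := herm_partner hf hσ hc0 hc (δ := 1) one_ne_zero
  obtain ⟨z, hzc, hze, hzz⟩ := herm_perp_pair hf hσ le_rfl hc he (by rw [hce]; exact one_ne_zero) (map_one σ)
  exact ⟨z, e, hc, he, hce, by rw [hf.symm c e, hce, map_one, mul_one], hzz, hzc, hf.eq_zero_symm hzc, hze,
    hf.eq_zero_symm hze⟩

theorem Frame.decomp {σ : F →+* F} {f : (Fin 3 → F) → (Fin 3 → F) → F} (hf : IsSForm σ 1 f)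
    {c z e : Fin 3 → F} (R : Frame f c z e) (v : Fin 3 → F) :
    v = f v e • c + f v z • z + f v c • e := by
  let T : (Fin 3 → F) →ₗ[F] (Fin 3 → F) :=
    { toFun := fun v => ![f v e, f v z, f v c]
      map_add' := fun p r => funext fun i => by fin_cases i <;> simp [hf.add_left]
      map_smul' := fun s p => funext fun i => by fin_cases i <;> simp [hf.smul_left] }
  have hsur : Function.Surjective T := fun y => ⟨y 0 • c + y 1 • z + y 2 • e, funext fun i => by
    fin_cases i <;> simp [T, hf.add_left, hf.smul_left, R.cc, R.ee, R.ce, R.ec, R.zz, R.zc, R.cz, R.ze, R.ez]⟩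
  refine (LinearMap.injective_iff_surjective.2 hsur) (funext fun i => ?_)
  fin_cases i <;> simp [T, hf.add_left, hf.smul_left, R.cc, R.ee, R.ce, R.ec, R.zz, R.zc, R.cz, R.ze, R.ez]

theorem Frame.decomp_mat {σ : F →+* F} {f : (Fin 3 → F) → (Fin 3 → F) → F} (hf : IsSForm σ 1 f)
    {c z e : Fin 3 → F} (R : Frame f c z e) (Y : Matrix (Fin a) (Fin 3) F) :
    Y = vecMulVec (Y *ᵥ cov f e) c + vecMulVec (Y *ᵥ cov f z) z + vecMulVec (Y *ᵥ cov f c) e := by
  ext i j
  have h := congrFun (R.decomp hf (Y i)) j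
  rw [← hf.dot_cov, ← hf.dot_cov, ← hf.dot_cov] at h
  simpa [vecMulVec_apply, mulVec, mul_comm] using h

/-- The isometry multiplying the ends of a frame by `μ` and `(σ μ)⁻¹` and the middle by `ν`. -/
theorem Frame.exists_scale {σ : F →+* F} {f : (Fin 3 → F) → (Fin 3 → F) → F} (hf : IsSForm σ 1 f)
    {c z e : Fin 3 → F} (R : Frame f c z e) {μ ν : F} (hμ : μ ≠ 0) (hν : ν * σ ν = 1) :
    ∃ D : Matrix (Fin 3) (Fin 3) F, (∀ v w, f (D *ᵥ v) (D *ᵥ w) = f v w) ∧
      D *ᵥ c = μ • c ∧ D *ᵥ z = ν • z ∧ D *ᵥ e = (σ μ)⁻¹ • e := by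
  let D : Matrix (Fin 3) (Fin 3) F :=
    μ • vecMulVec c (cov f e) + ν • vecMulVec z (cov f z) + (σ μ)⁻¹ • vecMulVec e (cov f c)
  have hD : ∀ v, D *ᵥ v = (μ * f v e) • c + (ν * f v z) • z + ((σ μ)⁻¹ * f v c) • e := fun v => by
    simp only [D, add_mulVec, smul_mulVec, vecMulVec_mulVec, op_smul_eq_smul, smul_smul, dotProduct_comm _ v,
      hf.dot_cov]
  refine ⟨D, fun v w => ?_, ?_, ?_, ?_⟩
  · have hσμ : σ μ ≠ 0 := (map_ne_zero σ).2 hμ
    conv_rhs => rw [R.decomp hf v, R.decomp hf w]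
    rw [hD, hD]
    simp only [hf.add_left, hf.add_right, hf.smul_left, hf.smul_right, map_mul, map_inv₀, hf.invol,
      R.cc, R.ee, R.ce, R.ec, R.zz, R.zc, R.cz, R.ze, R.ez]
    field_simp
    linear_combination (f v z * σ (f w z) * μ * σ μ) * hν
  all_goals simp [hD, R.cc, R.ee, R.ce, R.ec, R.zz, R.zc, R.cz, R.ze, R.ez]

namespace Ctx

variable [Finite F] {σ : F →+* F} {f₁ : (Fin 2 → F) → (Fin 2 → F) → F}
  {f₂ : (Fin 3 → F) → (Fin 3 → F) → F} {M : Subgroup (GL (Fin 2 × Fin 3) F)}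
  (C : Ctx σ f₁ f₂ M)
include C

/-- A Kronecker isometry `k` with `k⁻¹ g` unipotent lies in `M`. -/
theorem mem_of_unipotent {g k : GL (Fin 2 × Fin 3) F} (hg : g ∈ M) (hkk : k ∈ Cfsg.Geo.kroneckerSubgroup 2 3 F)
    (hki : ∀ X Y, tB f₁ f₂ (op k X) (op k Y) = tB f₁ f₂ X Y)
    (hu : ∀ X, dop (k⁻¹ * g) (dop (k⁻¹ * g) (dop (k⁻¹ * g) X)) = 0) : k⁻¹ * g ∈ M := by
  have hd := det_one_of_unipotent hu
  refine M.mul_mem (M.inv_mem (C.kron k hkk ?_ hki)) hg
  have h := congrArg (fun G : GL (Fin 2 × Fin 3) F => (G : Matrix (Fin 2 × Fin 3) (Fin 2 × Fin 3) F).det)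
    (mul_inv_cancel_left k g)
  simp only [Units.val_mul, det_mul] at h
  rw [Units.val_mul, det_mul] at hd
  rw [hd, C.det g hg, mul_one] at h
  exact h

theorem iso_mem_or_kron {k : GL (Fin 2 × Fin 3) F}
    (hki : ∀ X Y, tB f₁ f₂ (op k X) (op k Y) = tB f₁ f₂ X Y) {g : GL (Fin 2 × Fin 3) F} (hg : g ∈ M)
    (X Y : Matrix (Fin 2) (Fin 3) F) : tB f₁ f₂ (op (k⁻¹ * g) X) (op (k⁻¹ * g) Y) = tB f₁ f₂ X Y := by
  rw [← hki, op_mul, op_mul, op_op_inv, op_op_inv, C.iso g hg]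

/-- The stabiliser of `x ⊗ U` consists of Kronecker products. -/
theorem kron_of_stab_left (hno : NoRoot σ f₁ f₂ M) {x : Fin 2 → F} (hx0 : x ≠ 0) (hx : f₁ x x = 0)
    {g : GL (Fin 2 × Fin 3) F} (hg : g ∈ M) {A : (Fin 3 → F) →ₗ[F] (Fin 3 → F)}
    (hA : ∀ u, op g (vecMulVec x u) = vecMulVec x (A u)) : g ∈ Cfsg.Geo.kroneckerSubgroup 2 3 F := by
  have h1 := C.form₁
  have h2 := C.form₂
  obtain ⟨μ, hμ, hsim⟩ := C.similitude hno hx0 hx hg hA
  have hσμ : σ μ ≠ 0 := (map_ne_zero σ).2 hμ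
  obtain ⟨m, hm, hxm⟩ := herm_partner h1 C.moved hx0 hx (δ := 1) one_ne_zero
  have hmx : f₁ m x = 1 := by rw [herm_eq h1 x m, hxm, map_one]
  let d : Matrix (Fin 2) (Fin 2) F := μ • vecMulVec x (cov f₁ m) + (σ μ)⁻¹ • vecMulVec m (cov f₁ x)
  have hd : ∀ v, d *ᵥ v = (μ * f₁ v m) • x + ((σ μ)⁻¹ * f₁ v x) • m := fun v => by
    simp only [d, add_mulVec, smul_mulVec, vecMulVec_mulVec, op_smul_eq_smul, smul_smul, dotProduct_comm _ v,
      h1.dot_cov]
  have hdi : ∀ v w, f₁ (d *ᵥ v) (d *ᵥ w) = f₁ v w := fun v w => by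
    conv_rhs => rw [decomp_two h1 hx hm hxm v, decomp_two h1 hx hm hxm w]
    rw [hd, hd]
    simp only [h1.add_left, h1.add_right, h1.smul_left, h1.smul_right, map_mul, map_inv₀, h1.invol, hx, hm,
      hxm, hmx]
    field_simp
    ring
  let D : Matrix (Fin 3) (Fin 3) F := μ⁻¹ • LinearMap.toMatrix' A
  have hD : ∀ e, D *ᵥ e = μ⁻¹ • A e := fun e => by rw [smul_mulVec, LinearMap.toMatrix'_mulVec]
  have hDi : ∀ v w, f₂ (D *ᵥ v) (D *ᵥ w) = f₂ v w := fun v w => by
    rw [hD, hD, h2.smul_left, h2.smul_right, hsim, map_inv₀]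
    field_simp
  obtain ⟨k, hkk, -, hk⟩ := exists_kron_of d D (det_ne_of_iso h1 hdi) (det_ne_of_iso h2 hDi)
  have hki : ∀ X Y, tB f₁ f₂ (op k X) (op k Y) = tB f₁ f₂ X Y :=
    tB_iso_of_pure h1 h2 fun v w e e' => by rw [hk, hk, tB_pure_pure h1 h2, hDi, hdi]
  set g' := k⁻¹ * g with hg'
  have hfix : ∀ u, op g' (vecMulVec x u) = vecMulVec x u := fun u => by
    rw [op_mul, hA, show vecMulVec x (A u) = op k (vecMulVec x u) by
      rw [hk, hd, hD, hx, hxm, mul_zero, zero_smul, add_zero, mul_one, pure_smul_left, pure_smul_right,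
        smul_smul, mul_inv_cancel₀ hμ, one_smul], op_inv_op]
  have hcon : ∀ X, cov f₁ x ᵥ* (op g' X) = cov f₁ x ᵥ* X := fun X => by
    by_contra hne
    obtain ⟨u, hu⟩ := h2.nondeg _ (sub_ne_zero.2 hne)
    refine hu ?_
    rw [h2.sub_left, contr_comm h1 h2, contr_comm h1 h2, ← tB_pure h1 h2, ← tB_pure h1 h2]
    conv_lhs => arg 1; rw [← hfix u, C.iso_mem_or_kron hki hg]
    rw [sub_self]
  let N := dop g'
  let Z : (Fin 3 → F) →ₗ[F] (Fin 3 → F) := contrX 3 (cov f₁ m) ∘ₗ N ∘ₗ plL 3 m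
  have hN0 : ∀ u, N (vecMulVec x u) = 0 := fun u => by
    simp only [N, dop_apply, hfix, sub_self]
  have hNx : ∀ Y, cov f₁ x ᵥ* N Y = 0 := fun Y => by
    simp only [N, dop_apply, vecMul_sub, hcon, sub_self]
  have hN : ∀ Y, N Y = vecMulVec x (Z (cov f₁ x ᵥ* Y)) := fun Y => by
    have e1 : N Y = N (vecMulVec m (cov f₁ x ᵥ* Y)) := by
      conv_lhs => rw [decomp_two_mat h1 hx hm hxm Y, map_add, hN0, zero_add]
    rw [e1]
    conv_lhs => rw [decomp_two_mat h1 hx hm hxm (N _), hNx, pure_zero_right, add_zero]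
    rfl
  have hg'M : g' ∈ M := C.mem_of_unipotent hg hkk hki fun X => by
    show N (N (N X)) = 0
    rw [hN X, hN0, map_zero]
  have hX : ∀ X, op g' X = X + vecMulVec x (Z (cov f₁ x ᵥ* X)) := fun X => by
    rw [← hN]; simp [N, dop_apply]
  obtain ⟨s, hs⟩ := C.inX_scalar hno hx0 hx ⟨g', hg'M, hX⟩
  have hdet : (1 + vecMulVec (s • x) (cov f₁ x) : Matrix (Fin 2) (Fin 2) F).det = 1 := by
    rw [vecMulVec_eq Unit, det_one_add_replicateCol_mul_replicateRow, dotProduct_smul, dotProduct_comm,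
      h1.dot_cov, hx, smul_zero, add_zero]
  obtain ⟨t, htk, -, ht⟩ := exists_kron_of (1 + vecMulVec (s • x) (cov f₁ x)) (1 : Matrix (Fin 3) (Fin 3) F)
    (by rw [hdet]; exact one_ne_zero) (by simp)
  have e : g' = t := op_ext_pure fun v u => by
    rw [hX, hs, vecMul_pure, ht, one_mulVec, add_mulVec, one_mulVec, vecMulVec_mulVec, op_smul_eq_smul,
      dotProduct_comm (cov f₁ x), h1.dot_cov, pure_add_left, pure_smul_left, pure_smul_left, pure_smul_right,
      pure_smul_right, smul_comm]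
  have hgk := Subgroup.mul_mem _ hkk (e ▸ htk : g' ∈ Cfsg.Geo.kroneckerSubgroup 2 3 F)
  rwa [hg', mul_inv_cancel_left] at hgk

/-- An element fixing the orthogonal of `C ⊗ c` pointwise is a Kronecker product. -/
theorem kron_of_fix_perp (hno : NoRoot σ f₁ f₂ M) {c z e : Fin 3 → F} (R : Frame f₂ c z e) (hc0 : c ≠ 0)
    {g : GL (Fin 2 × Fin 3) F} (hg : g ∈ M) (hcl : ∀ y, op g (vecMulVec y c) = vecMulVec y c)
    (hzl : ∀ y, op g (vecMulVec y z) = vecMulVec y z) : g ∈ Cfsg.Geo.kroneckerSubgroup 2 3 F := by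
  have h1 := C.form₁
  have h2 := C.form₂
  let N := dop g
  have hNc : ∀ y, N (vecMulVec y c) = 0 := fun y => by simp [N, dop_apply, hcl]
  have hNz : ∀ y, N (vecMulVec y z) = 0 := fun y => by simp [N, dop_apply, hzl]
  have hker : ∀ v, (∀ y, op g (vecMulVec y v) = vecMulVec y v) → ∀ Y, N Y *ᵥ cov f₂ v = 0 := by
    intro v hv Y
    by_contra hne
    obtain ⟨w, hw⟩ := h1.nondeg _ hne
    refine hw ?_
    simp only [N, dop_apply, sub_mulVec, h1.sub_left]
    rw [← tB_pure h1 h2, ← tB_pure h1 h2]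
    conv_lhs => arg 1; rw [← hv w, C.iso g hg]
    rw [sub_self]
  let Z : (Fin 2 → F) →ₗ[F] (Fin 2 → F) := contr 2 (cov f₂ e) ∘ₗ N ∘ₗ pl 2 e
  have hN : ∀ Y, N Y = vecMulVec (Z (Y *ᵥ cov f₂ c)) c := fun Y => by
    have e1 : N Y = N (vecMulVec (Y *ᵥ cov f₂ c) e) := by
      conv_lhs => rw [R.decomp_mat h2 Y, map_add, map_add, hNc, hNz, zero_add, zero_add]
    rw [e1]
    conv_lhs => rw [R.decomp_mat h2 (N _), hker c hcl, hker z hzl, pure_zero_left, pure_zero_left,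
      add_zero, add_zero]
    rfl
  have hX : ∀ X, op g X = X + vecMulVec (Z (X *ᵥ cov f₂ c)) c := fun X => by
    rw [← hN]; simp [N, dop_apply]
  obtain ⟨s, hs⟩ := C.inZ_scalar hno hc0 R.cc ⟨g, hg, hX⟩
  have hdet : (1 + vecMulVec (s • c) (cov f₂ c) : Matrix (Fin 3) (Fin 3) F).det = 1 := by
    rw [vecMulVec_eq Unit, det_one_add_replicateCol_mul_replicateRow, dotProduct_smul, dotProduct_comm,
      h2.dot_cov, R.cc, smul_zero, add_zero]
  obtain ⟨t, htk, -, ht⟩ := exists_kron_of (1 : Matrix (Fin 2) (Fin 2) F) (1 + vecMulVec (s • c) (cov f₂ c))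
    (by simp) (by rw [hdet]; exact one_ne_zero)
  have et : g = t := op_ext_pure fun y v => by
    rw [hX, hs, pure_mulVec, ht, one_mulVec, add_mulVec, one_mulVec, vecMulVec_mulVec, op_smul_eq_smul,
      dotProduct_comm (cov f₂ c), h2.dot_cov, pure_add_right, pure_smul_right, pure_smul_right, pure_smul_left,
      pure_smul_left, smul_comm]
  exact et ▸ htk

/-- A Kronecker element of the unipotent radical at `c`. -/
theorem exists_q {c z e : Fin 3 → F} (R : Frame f₂ c z e) (β : F) :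
    ∃ q ∈ M, q ∈ Cfsg.Geo.kroneckerSubgroup 2 3 F ∧ ∃ γ : F,
      (∀ y, op q (vecMulVec y c) = vecMulVec y c) ∧
      (∀ y, op q (vecMulVec y z) = vecMulVec y z + vecMulVec ((-σ β) • y) c) ∧
      (∀ y, op q (vecMulVec y e) = vecMulVec y e + vecMulVec (β • y) z + vecMulVec (γ • y) c) := by
  have h1 := C.form₁
  have h2 := C.form₂
  obtain ⟨τ, hτ⟩ := herm_trace h2 C.moved
  obtain ⟨γ, hγ⟩ : ∃ γ, γ = -(β * σ β * τ) := ⟨_, rfl⟩
  have hγ2 : γ + σ γ + β * σ β = 0 := by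
    rw [hγ, map_neg, map_mul, map_mul, h2.invol]
    linear_combination (-(β * σ β)) * hτ
  let D : Matrix (Fin 3) (Fin 3) F :=
    1 + (-σ β) • vecMulVec c (cov f₂ z) + γ • vecMulVec c (cov f₂ c) + β • vecMulVec z (cov f₂ c)
  have hD : ∀ v, D *ᵥ v = v + ((-σ β) * f₂ v z) • c + (γ * f₂ v c) • c + (β * f₂ v c) • z := fun v => by
    simp only [D, add_mulVec, one_mulVec, smul_mulVec, vecMulVec_mulVec, op_smul_eq_smul, smul_smul,
      dotProduct_comm _ v, h2.dot_cov]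
  have hDi : ∀ v w, f₂ (D *ᵥ v) (D *ᵥ w) = f₂ v w := fun v w => by
    rw [hD, hD]
    simp only [h2.add_left, h2.add_right, h2.smul_left, h2.smul_right, R.cc, R.zz, R.zc, R.cz, map_mul,
      map_neg, h2.invol, ← herm_eq h2 w z, ← herm_eq h2 w c]
    linear_combination (f₂ v c * f₂ c w) * hγ2
  obtain ⟨q, hqk, -, hq⟩ := exists_kron_of (1 : Matrix (Fin 2) (Fin 2) F) D (by simp) (det_ne_of_iso h2 hDi)
  have hqi : ∀ X Y, tB f₁ f₂ (op q X) (op q Y) = tB f₁ f₂ X Y :=
    tB_iso_of_pure h1 h2 fun v w u u' => by rw [hq, hq, one_mulVec, one_mulVec, tB_pure_pure h1 h2, hDi]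
  have hqc : ∀ y, op q (vecMulVec y c) = vecMulVec y c := fun y => by
    rw [hq, one_mulVec, hD, R.cz, R.cc]; simp
  have hqz : ∀ y, op q (vecMulVec y z) = vecMulVec y z + vecMulVec ((-σ β) • y) c := fun y => by
    rw [hq, one_mulVec, hD, R.zz, R.zc]
    simp [pure_add_right, pure_smul_right, pure_smul_left]
  have hqe : ∀ y, op q (vecMulVec y e) = vecMulVec y e + vecMulVec (β • y) z + vecMulVec (γ • y) c := fun y => by
    rw [hq, one_mulVec, hD, R.ez, R.ec]
    simp [pure_add_right, pure_smul_right, pure_smul_left]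
    abel
  refine ⟨q, C.kron q hqk (det_one_of_unipotent fun Y => ?_) hqi, hqk, γ, hqc, hqz, hqe⟩
  rw [R.decomp_mat h2 Y]
  simp only [dop_apply, map_add, map_sub, hqc, hqz, hqe]
  abel_nf

/-- The middle coefficient of an element trivial at `c` is scalar. -/
theorem phi_scalar (hno : NoRoot σ f₁ f₂ M) {c z e : Fin 3 → F} (R : Frame f₂ c z e) (hc0 : c ≠ 0)
    {u : GL (Fin 2 × Fin 3) F} (hu : u ∈ M) {φ : (Fin 2 → F) →ₗ[F] (Fin 2 → F)}
    (hcl : ∀ y, op u (vecMulVec y c) = vecMulVec y c)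
    (hzl : ∀ y, op u (vecMulVec y z) = vecMulVec y z + vecMulVec (φ y) c) :
    ∃ s : F, ∀ y, φ y = s • y := by
  have h1 := C.form₁
  have h2 := C.form₂
  have hcon : ∀ X, op u X *ᵥ cov f₂ c = X *ᵥ cov f₂ c := fun X => by
    by_contra hne
    obtain ⟨w, hw⟩ := h1.nondeg _ (sub_ne_zero.2 hne)
    refine hw ?_
    rw [h1.sub_left, ← tB_pure h1 h2, ← tB_pure h1 h2]
    conv_lhs => arg 1; rw [← hcl w, C.iso u hu]
    rw [sub_self]
  let ψ : (Fin 2 → F) →ₗ[F] (Fin 2 → F) := contr 2 (cov f₂ z) ∘ₗ op u ∘ₗ pl 2 e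
  let χ : (Fin 2 → F) →ₗ[F] (Fin 2 → F) := contr 2 (cov f₂ e) ∘ₗ op u ∘ₗ pl 2 e
  have hel : ∀ y, op u (vecMulVec y e) = vecMulVec y e + vecMulVec (ψ y) z + vecMulVec (χ y) c := fun y => by
    conv_lhs => rw [R.decomp_mat h2 (op u _), hcon, pure_mulVec, h2.dot_cov, R.ec, one_smul]
    show vecMulVec (χ y) c + vecMulVec (ψ y) z + _ = _
    abel
  have hZ : ∀ β : F, InZ f₂ M c (β • φ + σ β • ψ) := by
    intro β
    obtain ⟨q, hq, -, γ, hqc, hqz, hqe⟩ := C.exists_q R β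
    refine ⟨u * q * (q * u)⁻¹, M.mul_mem (M.mul_mem hu hq) (M.inv_mem (M.mul_mem hq hu)), fun Y => ?_⟩
    obtain ⟨X, rfl⟩ : ∃ X, op (q * u) X = Y := ⟨op (q * u)⁻¹ Y, op_op_inv _ _⟩
    have hqcon : ∀ Z' : Matrix (Fin 2) (Fin 3) F, op q Z' *ᵥ cov f₂ c = Z' *ᵥ cov f₂ c := fun Z' => by
      by_contra hne
      obtain ⟨w, hw⟩ := h1.nondeg _ (sub_ne_zero.2 hne)
      refine hw ?_
      rw [h1.sub_left, ← tB_pure h1 h2, ← tB_pure h1 h2]
      conv_lhs => arg 1; rw [← hqc w, C.iso q hq]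
      rw [sub_self]
    rw [op_mul, op_inv_op, op_mul, op_mul, hqcon, hcon]
    conv_lhs => rw [R.decomp_mat h2 X]
    conv_rhs => arg 1; rw [R.decomp_mat h2 X]
    simp only [map_add, hqc, hqz, hqe, hel, hcl, hzl, LinearMap.add_apply, LinearMap.smul_apply,
      pure_add_left, pure_smul_left, map_smul, neg_smul, pure_neg_left, map_neg]
    module
  obtain ⟨t, ht⟩ := herm_moved h1 C.moved
  obtain ⟨s₁, hs₁⟩ := C.inZ_scalar hno hc0 R.cc (hZ 1)
  obtain ⟨s₂, hs₂⟩ := C.inZ_scalar hno hc0 R.cc (hZ t)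
  refine ⟨(s₂ - σ t * s₁) / (t - σ t), fun y => ?_⟩
  have e₁ := hs₁ y
  have e₂ := hs₂ y
  simp only [LinearMap.add_apply, LinearMap.smul_apply, map_one, one_smul] at e₁ e₂
  have hne : t - σ t ≠ 0 := sub_ne_zero.2 (Ne.symm ht)
  have hh : (t - σ t) • φ y = (s₂ - σ t * s₁) • y := by
    linear_combination (norm := module) e₂ - σ t • e₁
  rw [div_eq_inv_mul, ← smul_smul, ← hh, smul_smul, inv_mul_cancel₀ hne, one_smul]

/-- An element trivial on the layers at `c` is a Kronecker product. -/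
theorem kron_of_layer (hno : NoRoot σ f₁ f₂ M) {c z e : Fin 3 → F} (R : Frame f₂ c z e) (hc0 : c ≠ 0)
    {u : GL (Fin 2 × Fin 3) F} (hu : u ∈ M) {φ : (Fin 2 → F) →ₗ[F] (Fin 2 → F)}
    (hcl : ∀ y, op u (vecMulVec y c) = vecMulVec y c)
    (hzl : ∀ y, op u (vecMulVec y z) = vecMulVec y z + vecMulVec (φ y) c) :
    u ∈ Cfsg.Geo.kroneckerSubgroup 2 3 F := by
  obtain ⟨s, hs⟩ := C.phi_scalar hno R hc0 hu hcl hzl
  obtain ⟨q, hq, hqk, γ, hqc, hqz, -⟩ := C.exists_q R (-σ s)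
  have hk := C.kron_of_fix_perp hno R hc0 (M.mul_mem (M.inv_mem hq) hu)
    (fun y => by rw [op_mul, hcl]; exact (congrArg _ (hqc y)).symm.trans (op_inv_op q _))
    (fun y => by
      rw [op_mul, hzl, hs]
      refine (congrArg _ ?_).trans (op_inv_op q _)
      rw [hqz, map_neg, C.form₂.invol, neg_neg])
  have := Subgroup.mul_mem _ hqk hk
  rwa [mul_inv_cancel_left] at this

/-- The stabiliser of `C ⊗ c` consists of Kronecker products. -/
theorem kron_of_stab_right (hno : NoRoot σ f₁ f₂ M) {c : Fin 3 → F} (hc0 : c ≠ 0) (hc : f₂ c c = 0)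
    {g : GL (Fin 2 × Fin 3) F} (hg : g ∈ M) {A : (Fin 2 → F) →ₗ[F] (Fin 2 → F)}
    (hA : ∀ y, op g (vecMulVec y c) = vecMulVec (A y) c) : g ∈ Cfsg.Geo.kroneckerSubgroup 2 3 F := by
  have h1 := C.form₁
  have h2 := C.form₂
  obtain ⟨z, e, R⟩ := exists_frame h2 C.moved hc0 hc
  obtain ⟨μ, hμ, hsim⟩ := C.swap.similitude (C.noRoot_swap hno) hc0 hc (g := sw 2 3 F g) ⟨g, hg, rfl⟩
    (A := A) fun y => by rw [op_sw, transpose_vecMulVec, hA, transpose_vecMulVec]
  have hσμ : σ μ ≠ 0 := (map_ne_zero σ).2 hμ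
  have hr : μ * σ μ ≠ 0 := mul_ne_zero hμ hσμ
  have hAi : Function.Injective A := fun v w hvw =>
    pl_injective hc0 (op_injective g ((hA v).trans ((congrArg (vecMulVec · c) hvw).trans (hA w).symm)))
  let Ae := LinearEquiv.ofBijective A ⟨hAi, LinearMap.injective_iff_surjective.1 hAi⟩
  have hAe : ∀ v, A (Ae.symm v) = v := Ae.apply_symm_apply
  have hcon : ∀ X, op g X *ᵥ cov f₂ c = (μ * σ μ)⁻¹ • A (X *ᵥ cov f₂ c) := fun X => by
    by_contra hne
    obtain ⟨w, hw⟩ := h1.nondeg _ (sub_ne_zero.2 hne)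
    refine hw ?_
    rw [← hAe w, h1.sub_left, h1.smul_left, hsim, inv_mul_cancel_left₀ hr, ← tB_pure h1 h2, ← hA,
      C.iso g hg, tB_pure h1 h2, sub_self]
  let B : (Fin 2 → F) →ₗ[F] (Fin 2 → F) := contr 2 (cov f₂ z) ∘ₗ op g ∘ₗ pl 2 z
  let E : (Fin 2 → F) →ₗ[F] (Fin 2 → F) := contr 2 (cov f₂ e) ∘ₗ op g ∘ₗ pl 2 z
  have hz : ∀ y, op g (vecMulVec y z) = vecMulVec (B y) z + vecMulVec (E y) c := fun y => by
    conv_lhs => rw [R.decomp_mat h2 (op g _), hcon, pure_mulVec, h2.dot_cov, R.zc, zero_smul, map_zero,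
      smul_zero, pure_zero_left, add_zero, add_comm]
    rfl
  have hBi : ∀ v w, f₁ (B v) (B w) = f₁ v w := fun v w => by
    have h := C.iso g hg (vecMulVec v z) (vecMulVec w z)
    rw [hz, hz, tB_add_left h1 h2, tB_add_right h1 h2, tB_add_right h1 h2, tB_pure_pure h1 h2,
      tB_pure_pure h1 h2, tB_pure_pure h1 h2, tB_pure_pure h1 h2, tB_pure_pure h1 h2, R.zz, R.zc, R.cz,
      R.cc] at h
    simpa using h
  have hBinj : Function.Injective B := fun v w hvw => by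
    by_contra hne
    obtain ⟨x, hx⟩ := h1.nondeg _ (sub_ne_zero.2 hne)
    exact hx (by rw [← hBi, map_sub, hvw, sub_self, h1.zero_left])
  let Be := LinearEquiv.ofBijective B ⟨hBinj, LinearMap.injective_iff_surjective.1 hBinj⟩
  have hBe : ∀ v, B (Be.symm v) = v := Be.apply_symm_apply
  obtain ⟨q, hq, -, γ, hqc, hqz, -⟩ := C.exists_q R 1
  obtain ⟨s, hs⟩ := C.phi_scalar hno R hc0 (M.mul_mem (M.mul_mem hg hq) (M.inv_mem hg))
    (φ := -(A ∘ₗ Be.symm.toLinearMap))
    (fun y => by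
      have e1 : op g⁻¹ (vecMulVec y c) = vecMulVec (Ae.symm y) c := op_injective g (by rw [op_op_inv, hA, hAe])
      rw [op_mul, op_mul, e1, hqc, hA, hAe])
    (fun y => by
      have e1 : op g⁻¹ (vecMulVec y z)
          = vecMulVec (Be.symm y) z - vecMulVec (Ae.symm (E (Be.symm y))) c := op_injective g (by
        rw [op_op_inv, map_sub, hz, hA, hAe, hBe, add_sub_cancel_right])
      rw [op_mul, op_mul, e1, map_sub, hqz, hqc, map_sub, map_add, hz, hA, hA, hAe, hBe]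
      simp only [map_one, neg_smul, one_smul, map_neg, LinearMap.neg_apply, LinearMap.comp_apply,
        LinearEquiv.coe_coe, pure_neg_left]
      abel)
  have hBA : ∀ v, A v = -(s • B v) := fun v => by
    have h := hs (B v)
    rw [LinearMap.neg_apply, LinearMap.comp_apply, LinearEquiv.coe_coe,
      show Be.symm (B v) = v from Be.symm_apply_apply v] at h
    rw [← h, neg_neg]
  obtain ⟨x₁, w₁, hxw⟩ : ∃ v w, f₁ v w ≠ 0 :=
    ⟨_, h1.nondeg (Pi.single 0 1) (by simp)⟩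
  have hsn : s * σ s = μ * σ μ := by
    have h := hsim x₁ w₁
    rw [hBA, hBA, h1.neg_left, ← neg_one_smul F (s • B w₁), h1.smul_right, h1.smul_left, h1.smul_right, hBi,
      map_neg, map_one] at h
    exact mul_right_cancel₀ hxw (by linear_combination h)
  have hs0 : s ≠ 0 := fun e0 => hr (by rw [← hsn, e0, zero_mul])
  have hν : (-μ / s) * σ (-μ / s) = 1 := by
    rw [map_div₀, map_neg, div_mul_div_comm, hsn, neg_mul_neg, div_self hr]
  obtain ⟨D, hDi, hDc, hDz, hDe⟩ := R.exists_scale h2 hμ hν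
  let d : Matrix (Fin 2) (Fin 2) F := μ⁻¹ • LinearMap.toMatrix' A
  have hd : ∀ v, d *ᵥ v = μ⁻¹ • A v := fun v => by rw [smul_mulVec, LinearMap.toMatrix'_mulVec]
  have hdi : ∀ v w, f₁ (d *ᵥ v) (d *ᵥ w) = f₁ v w := fun v w => by
    rw [hd, hd, h1.smul_left, h1.smul_right, hsim, map_inv₀]
    field_simp
  obtain ⟨k, hkk, -, hk⟩ := exists_kron_of d D (det_ne_of_iso h1 hdi) (det_ne_of_iso h2 hDi)
  have hki : ∀ X Y, tB f₁ f₂ (op k X) (op k Y) = tB f₁ f₂ X Y :=
    tB_iso_of_pure h1 h2 fun v w u u' => by rw [hk, hk, tB_pure_pure h1 h2, hDi, hdi]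
  have hkc : ∀ y, op k (vecMulVec y c) = vecMulVec (A y) c := fun y => by
    rw [hk, hd, hDc, pure_smul_left, pure_smul_right, smul_smul, inv_mul_cancel₀ hμ, one_smul]
  have hkz : ∀ y, op k (vecMulVec y z) = vecMulVec (B y) z := fun y => by
    rw [hk, hd, hDz, hBA, pure_smul_left, pure_smul_right, pure_neg_left, pure_smul_left, smul_neg, smul_neg,
      smul_smul, smul_smul, ← neg_smul]
    convert one_smul F (vecMulVec (B y) z) using 2
    field_simp
  set g' := k⁻¹ * g with hg'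
  have hcl : ∀ y, op g' (vecMulVec y c) = vecMulVec y c := fun y => by
    rw [op_mul, hA, ← hkc, op_inv_op]
  have hzl : ∀ y, op g' (vecMulVec y z) = vecMulVec y z + vecMulVec ((Ae.symm.toLinearMap ∘ₗ E) y) c := fun y => by
    apply op_injective k
    rw [hg', op_mul, op_op_inv, hz, map_add, hkc, hkz]
    simp only [LinearMap.comp_apply, LinearEquiv.coe_coe, hAe]
  have hg'con : ∀ X, op g' X *ᵥ cov f₂ c = X *ᵥ cov f₂ c := fun X => by
    by_contra hne
    obtain ⟨w, hw⟩ := h1.nondeg _ (sub_ne_zero.2 hne)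
    refine hw ?_
    rw [h1.sub_left, ← tB_pure h1 h2, ← tB_pure h1 h2]
    conv_lhs => arg 1; rw [← hcl w, C.iso_mem_or_kron hki hg]
    rw [sub_self]
  have hg'M : g' ∈ M := C.mem_of_unipotent hg hkk hki fun X => by
    set N := dop g' with hN
    have hNc : ∀ y, N (vecMulVec y c) = 0 := fun y => by simp [hN, dop_apply, hcl]
    have hNz : ∀ y, N (vecMulVec y z) = vecMulVec ((Ae.symm.toLinearMap ∘ₗ E) y) c := fun y => by
      simp [hN, dop_apply, hzl]
    rw [R.decomp_mat h2 (N X), show N X *ᵥ cov f₂ c = 0 by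
      simp [hN, dop_apply, sub_mulVec, hg'con], pure_zero_left, add_zero, map_add, hNc, hNz, zero_add, hNc]
  have hgk := Subgroup.mul_mem _ hkk (C.kron_of_layer hno R hc0 hg'M hcl hzl)
  rwa [hg', mul_inv_cancel_left] at hgk

/-- An element sending a point of `x ⊗ U` to an isotropic pure tensor is a Kronecker product. -/
theorem kron_of_hit (hno : NoRoot σ f₁ f₂ M) {g : GL (Fin 2 × Fin 3) F} (hg : g ∈ M) {x : Fin 2 → F}
    (hx0 : x ≠ 0) (hx : f₁ x x = 0) {u₀ : Fin 3 → F} {y : Fin 2 → F} (hy0 : y ≠ 0) (hy : f₁ y y = 0)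
    {c : Fin 3 → F} (hc0 : c ≠ 0) (hc : f₂ c c = 0)
    (hgx : op g (vecMulVec x u₀) = vecMulVec y c) : g ∈ Cfsg.Geo.kroneckerSubgroup 2 3 F := by
  have h1 := C.form₁
  have h2 := C.form₂
  obtain ⟨m, hm, hxm⟩ := herm_partner h1 C.moved hx0 hx (δ := 1) one_ne_zero
  obtain ⟨n, hn, hyn⟩ := herm_partner h1 C.moved hy0 hy (δ := 1) one_ne_zero
  have hmx : f₁ m x = 1 := by rw [herm_eq h1 x m, hxm, map_one]
  obtain ⟨l, hl0, hl⟩ := C.skew
  obtain ⟨t, ht, -, htX⟩ := C.transB c l hc hl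
  obtain ⟨Q, hQ⟩ : ∃ Q : Matrix (Fin 2) (Fin 3) F →ₗ[F] (Fin 2 → F),
      ∀ X, Q X = l • (op g X *ᵥ cov f₂ c) :=
    ⟨l • (contr 2 (cov f₂ c) ∘ₗ op g), fun X => rfl⟩
  let φ : (Fin 3 → F) →ₗ[F] F :=
    { toFun := fun w => f₁ (Q (vecMulVec x w)) n
      map_add' := fun p r => by rw [pure_add_right, map_add, h1.add_left]
      map_smul' := fun s p => by rw [pure_smul_right, map_smul, h1.smul_left]; rfl }
  let A : (Fin 3 → F) →ₗ[F] (Fin 3 → F) := LinearMap.id + φ.smulRight u₀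
  have hQy : ∀ w, Q (vecMulVec x w) = φ w • y := fun w => by
    have h0 : f₁ (Q (vecMulVec x w)) y = 0 := by
      rw [hQ, h1.smul_left, ← tB_pure h1 h2, ← hgx, C.iso g hg, tB_pure_pure h1 h2, hx, mul_zero, mul_zero]
    conv_lhs => rw [decomp_two h1 hy hn hyn (Q _), h0, zero_smul, add_zero]
    rfl
  set k := g⁻¹ * t * g with hkdef
  have hkN : ∀ X, dop k X = op g⁻¹ (vecMulVec (Q X) c) := fun X => by
    rw [dop_apply, hkdef, op_mul, op_mul, htX, map_add, op_inv_op, add_sub_cancel_left, hQ, pure_smul_left]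
  have hkM : k ∈ M := M.mul_mem (M.mul_mem (M.inv_mem hg) ht) hg
  have hkA : ∀ w, op k (vecMulVec x w) = vecMulVec x (A w) := fun w => by
    have h := hkN (vecMulVec x w)
    rw [dop_apply, hQy, pure_smul_left, map_smul, ← hgx, op_inv_op, sub_eq_iff_eq_add] at h
    rw [h]
    simp only [A, LinearMap.add_apply, LinearMap.id_apply, LinearMap.smulRight_apply, pure_add_right,
      pure_smul_right]
    abel
  obtain ⟨A', D', hAD⟩ := C.kron_of_stab_left hno hx0 hx hkM hkA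
  have hk0 : ∀ v w, op k (vecMulVec v w)
      = vecMulVec ((A' : Matrix (Fin 2) (Fin 2) F) *ᵥ v) ((D' : Matrix (Fin 3) (Fin 3) F) *ᵥ w) :=
    fun v w => by rw [op_kron hAD, mul_vecMulVec, vecMulVec_mul, vecMul_transpose]
  obtain ⟨w₀, hw₀⟩ : ∃ w, (D' : Matrix (Fin 3) (Fin 3) F) *ᵥ w ≠ 0 := by
    refine ⟨((D'⁻¹ : GL (Fin 3) F) : Matrix (Fin 3) (Fin 3) F) *ᵥ Pi.single 0 1, ?_⟩
    rw [mulVec_mulVec, ← Units.val_mul, mul_inv_cancel, Units.val_one, one_mulVec]
    simp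
  obtain ⟨ψ₀, hψ₀⟩ := exists_dot_one hw₀
  set r := A w₀ ⬝ᵥ ψ₀ with hr
  have hAx : (A' : Matrix (Fin 2) (Fin 2) F) *ᵥ x = r • x := by
    have h := congrArg (fun Z => Z *ᵥ ψ₀) ((hk0 x w₀).symm.trans (hkA w₀))
    simp only [pure_mulVec, hψ₀, one_smul] at h
    exact h
  have hr0 : r ≠ 0 := fun e0 => hx0 (by
    have h := congrArg (fun v => ((A'⁻¹ : GL (Fin 2) F) : Matrix (Fin 2) (Fin 2) F) *ᵥ v) hAx
    simp only [mulVec_mulVec, ← Units.val_mul, inv_mul_cancel, Units.val_one, one_mulVec, e0, zero_smul,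
      mulVec_zero] at h
    exact h)
  let dM : Matrix (Fin 2) (Fin 2) F := r⁻¹ • (A' : Matrix (Fin 2) (Fin 2) F)
  let N2 : (Fin 3 → F) →ₗ[F] (Fin 3 → F) :=
    r • Matrix.mulVecLin (D' : Matrix (Fin 3) (Fin 3) F) - LinearMap.id
  have hk : ∀ v w, op k (vecMulVec v w) = vecMulVec (dM *ᵥ v) (w + N2 w) := fun v w => by
    simp only [N2, dM, LinearMap.sub_apply, LinearMap.smul_apply, LinearMap.id_apply, mulVecLin_apply,
      add_sub_cancel, smul_mulVec, pure_smul_left, pure_smul_right, smul_smul, mul_inv_cancel₀ hr0, one_smul]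
    exact hk0 v w
  have hdx : dM *ᵥ x = x := by rw [smul_mulVec, hAx, smul_smul, inv_mul_cancel₀ hr0, one_smul]
  set δ := f₁ (dM *ᵥ m) x with hδ
  set η := f₁ (dM *ᵥ m) m with hη
  have hdm : dM *ᵥ m = η • x + δ • m := decomp_two h1 hx hm hxm _
  have hNx : ∀ w, dop k (vecMulVec x w) = vecMulVec x (N2 w) := fun w => by
    rw [dop_apply, hk, hdx, pure_add_right, add_sub_cancel_left]
  have hNm : ∀ w, dop k (vecMulVec m w)
      = vecMulVec x (η • (w + N2 w)) + vecMulVec m (δ • N2 w + (δ - 1) • w) := fun w => by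
    rw [dop_apply, hk, hdm, pure_add_left, pure_smul_left, pure_smul_left]
    simp only [← plL_apply, map_add, map_sub, map_smul]
    module
  have hsq : ∀ X, dop k (dop k X) = 0 := fun X => by
    rw [hkN (dop k X), hQ, hkN, op_op_inv, pure_mulVec, h2.dot_cov, hc, zero_smul, smul_zero,
      pure_zero_left, map_zero]
  have hKx : ∀ w : Fin 3 → F, cov f₁ x ᵥ* vecMulVec x w = 0 := fun w => by
    rw [vecMul_pure, dotProduct_comm, h1.dot_cov, hx, zero_smul]
  have hKm : ∀ w : Fin 3 → F, cov f₁ x ᵥ* vecMulVec m w = w := fun w => by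
    rw [vecMul_pure, dotProduct_comm, h1.dot_cov, hmx, one_smul]
  have hN22 : ∀ w, N2 (N2 w) = 0 := fun w => by
    have h := congrArg (fun X => cov f₁ m ᵥ* X) (hsq (vecMulVec x w))
    rw [hNx, hNx] at h
    simpa [vecMul_pure, dotProduct_comm (cov f₁ m) x, h1.dot_cov, hxm] using h
  have hS : ∀ w, (δ - 1) • ((δ - 1) • w) + (2 * δ * (δ - 1)) • N2 w = 0 := fun w => by
    have h := congrArg (fun X => cov f₁ x ᵥ* X) (hsq (vecMulVec m w))
    rw [hNm w, map_add, hNx, hNm] at h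
    simp only [vecMul_add, hKx, hKm, vecMul_zero, zero_add, map_add, map_smul, hN22] at h
    linear_combination (norm := module) h
  have hδ1 : δ - 1 = 0 := by
    by_contra hne
    have hN0 : ∀ u, N2 u = 0 := fun u => by
      have h := hS (N2 u)
      rw [hN22, smul_zero, add_zero, smul_smul] at h
      exact (smul_eq_zero.1 h).resolve_left (mul_ne_zero hne hne)
    have h := hS w₀
    rw [hN0, smul_zero, add_zero, smul_smul] at h
    exact hw₀ (by rw [(smul_eq_zero.1 h).resolve_left (mul_ne_zero hne hne), mulVec_zero])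
  have hδ1' : δ = 1 := sub_eq_zero.1 hδ1
  have hη0 : η = 0 := by
    by_contra hne
    set W₂ := wsub (g⁻¹) c with hW₂
    have hmem : ∀ X, dop k X ∈ W₂ := fun X => by rw [hkN, hW₂, mem_wsub]; exact ⟨_, rfl⟩
    let P : W₂ →ₗ[F] (Fin 3 → F) := contrX 3 (cov f₁ x) ∘ₗ W₂.subtype
    have e1 : LinearMap.range N2 ≤ LinearMap.range P := by
      rintro _ ⟨w, rfl⟩
      refine ⟨⟨_, hmem (vecMulVec m w)⟩, ?_⟩
      show cov f₁ x ᵥ* dop k (vecMulVec m w) = N2 w
      rw [hNm, hδ1', one_smul, sub_self, zero_smul, add_zero, vecMul_add, hKx, hKm, zero_add]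
    have hpl : ∀ w : LinearMap.ker N2, plL 3 x (w : Fin 3 → F) ∈ W₂ := fun w => by
      have h := W₂.smul_mem η⁻¹ (hmem (vecMulVec m (w : Fin 3 → F)))
      rwa [hNm, LinearMap.mem_ker.1 w.2, add_zero, smul_zero, hδ1', sub_self, zero_smul, add_zero,
        pure_zero_right, add_zero, pure_smul_right, smul_smul, inv_mul_cancel₀ hne, one_smul] at h
    let J : LinearMap.ker N2 →ₗ[F] LinearMap.ker P :=
      ((plL 3 x ∘ₗ (LinearMap.ker N2).subtype).codRestrict W₂ hpl).codRestrict _ fun w =>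
        LinearMap.mem_ker.2 (hKx _)
    have hJ : Function.Injective J := fun v w hvw => by
      have h : vecMulVec x (v : Fin 3 → F) = vecMulVec x (w : Fin 3 → F) :=
        congrArg (fun X : LinearMap.ker P => ((X : W₂) : Matrix (Fin 2) (Fin 3) F)) hvw
      have h' := congrArg (fun X => cov f₁ m ᵥ* X) h
      refine Subtype.ext ?_
      simpa [vecMul_pure, dotProduct_comm (cov f₁ m) x, h1.dot_cov, hxm] using h'
    have e2 := LinearMap.finrank_le_finrank_of_injective hJ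
    have e3 := Submodule.finrank_mono e1
    have e4 := N2.finrank_range_add_finrank_ker
    have e5 := P.finrank_range_add_finrank_ker
    rw [Module.finrank_fin_fun] at e4
    have e6 : Module.finrank F W₂ = 2 := finrank_wsub _ hc0
    omega
  have hd1 : ∀ v, dM *ᵥ v = v := fun v => by
    conv_lhs => rw [decomp_two h1 hx hm hxm v, mulVec_add, mulVec_smul, mulVec_smul, hdx, hdm, hη0, hδ1',
      zero_smul, zero_add, one_smul]
    exact (decomp_two h1 hx hm hxm v).symm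
  obtain ⟨w₁, hw₁⟩ : ∃ w, N2 w ≠ 0 := by
    by_contra hall
    push Not at hall
    have e1 : k = 1 := op_ext_pure fun v w => by rw [hk, hd1, hall, add_zero, op_one]
    have e2 : t = 1 := by
      rw [show t = g * k * g⁻¹ by rw [hkdef]; group, e1]
      group
    obtain ⟨e₀, he₀⟩ := h2.exists_partner hc0
    have h := htX (vecMulVec x e₀)
    rw [e2, op_one, left_eq_add, pure_mulVec, h2.dot_cov, he₀, one_smul, smul_eq_zero] at h
    exact hx0 (pl_injective hc0 ((h.resolve_left hl0).trans (map_zero _).symm))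
  set c' := N2 w₁ with hc'
  have hgc : ∀ v, op g (vecMulVec v c') = vecMulVec (Q (vecMulVec v w₁)) c := fun v => by
    have h := hkN (vecMulVec v w₁)
    rw [dop_apply, hk, hd1, pure_add_right, add_sub_cancel_left] at h
    rw [hc', h, op_op_inv]
  have hc'' : f₂ c' c' = 0 := by
    have h := C.iso g hg (vecMulVec x c') (vecMulVec m c')
    rw [hgc, hgc, tB_pure_pure h1 h2, tB_pure_pure h1 h2, hc, zero_mul, hxm, mul_one] at h
    exact h.symm
  obtain ⟨q, hq, hqk, s, hs0, hqc⟩ : ∃ q ∈ M, q ∈ Cfsg.Geo.kroneckerSubgroup 2 3 F ∧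
      ∃ s : F, s ≠ 0 ∧ ∀ v, op q (vecMulVec v c) = s • vecMulVec v c' := by
    by_cases hcc : f₂ c c' = 0
    · obtain ⟨z, e, R⟩ := exists_frame h2 C.moved hc0 hc
      have hdec := R.decomp h2 c'
      rw [h2.eq_zero_symm hcc, zero_smul, add_zero] at hdec
      have hz0 : f₂ c' z = 0 := by
        have h := hc''
        rw [hdec] at h
        simp only [h2.add_left, h2.add_right, h2.smul_left, h2.smul_right, R.cc, R.zz, R.zc, R.cz, mul_zero,
          add_zero, zero_add, mul_one] at h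
        rcases mul_eq_zero.1 h with h' | h'
        · exact h'
        · exact (map_eq_zero σ).1 h'
      rw [hz0, zero_smul, add_zero] at hdec
      have hne : f₂ c' e ≠ 0 := fun e0 => hw₁ (hdec.trans (by rw [e0, zero_smul]))
      exact ⟨1, M.one_mem, Subgroup.one_mem _, (f₂ c' e)⁻¹, inv_ne_zero hne, fun v => by
        rw [op_one, show vecMulVec v c' = f₂ c' e • vecMulVec v c by rw [← pure_smul_right, ← hdec],
          smul_smul, inv_mul_cancel₀ hne, one_smul]⟩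
    · obtain ⟨z, l', s, hz, hl', hs, he⟩ := h2.exists_move_herm C.moved hc hc'' hcc
      obtain ⟨t', ht', htk', htX'⟩ := C.transB z l' hz hl'
      exact ⟨t', ht', htk', s, hs, fun v => by
        rw [htX', pure_mulVec, h2.dot_cov, pure_smul_left, smul_smul, ← pure_smul_right, ← pure_add_right, he,
          pure_smul_right]⟩
  have hfin := C.kron_of_stab_right hno hw₁ hc'' (M.mul_mem hq hg) (A := s • (Q ∘ₗ (pl 2 w₁))) fun v => by
    rw [op_mul, hgc, hqc, LinearMap.smul_apply, LinearMap.comp_apply, pl_apply, pure_smul_left]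
  have := Subgroup.mul_mem _ (Subgroup.inv_mem _ hqk) hfin
  rwa [inv_mul_cancel_left] at this

end Ctx

end Cfsg.Agent.Lib.TensorTwoThreeU
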